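import Cfsg.Agent.Orthogonal.Eichler

/-!
A subgroup of the orthogonal group containing the two root subgroups of an opposite pair of
singular points contains every Eichler transformation.
-/

set_option autoImplicit false

namespace Cfsg.Agent.H30.OrthTwoGen

open QuadraticMap Module Cfsg.Agent.Orthogonal

variable {F V : Type*} [Field F] [AddCommGroup V] [Module F V]
variable {Q : QuadraticForm F V}

/-- Two singular partners of a common singular vector are conjugate along it. -/
theorem exists_move_partner {f : V} (hf : Q f = 0) {G : Subgroup (O Q)}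
    (hF : ∀ (w : V) (hw : polar Q f w = 0), sie f w hf hw ∈ G) {u v : V} (hu : Q u = 0) (hv : Q v = 0)
    (huf : polar Q u f = 1) (hvf : polar Q v f = 1) : ∃ g ∈ G, (g : V ≃ₗ[F] V) u = v := by
  have hfu : polar Q f u = 1 := by rw [polar_comm]; exact huf
  have hfw : polar Q f (u - v + polar Q u v • f) = 0 := by
    rw [polar_add_right, polar_sub_right, polar_smul_right', hfu, polar_comm (⇑Q) f v, hvf,
      polar_self', hf]; ring
  refine ⟨_, hF _ hfw, ?_⟩
  have hQw : Q (u - v + polar Q u v • f) = -polar Q u v := by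
    simp only [map_add_polar, qmap_sub, qmap_smul, polar_sub_left, polar_smul_right', hu, hv, hf,
      huf, hvf]
    ring
  rw [sie_app, hQw, hfu]
  simp only [polar_add_left, polar_sub_left, polar_smul_left', polar_self', hu, hfu,
    polar_comm (⇑Q) v u]
  match_scalars <;> ring

/-- A subgroup with all Eichler transformations along `e` and along `f` has all of them. -/
theorem sieGroup_le_of_opposite (hQ : Nondeg Q) {e f : V} (he : Q e = 0) (hf : Q f = 0)
    (hef : polar Q e f = 1) {G : Subgroup (O Q)}
    (hE : ∀ (w : V) (hw : polar Q e w = 0), sie e w he hw ∈ G)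
    (hF : ∀ (w : V) (hw : polar Q f w = 0), sie f w hf hw ∈ G) : sieGroup Q ≤ G := by
  have hfe : polar Q f e = 1 := by rw [polar_comm]; exact hef
  -- conjugation into one of the two root subgroups
  have finish : ∀ (u w : V) (hu : Q u = 0) (hw : polar Q u w = 0) (g : O Q), g ∈ G → ∀ s : F,
      ((g : V ≃ₗ[F] V) u = s • e ∨ (g : V ≃ₗ[F] V) u = s • f) → sie u w hu hw ∈ G := by
    intro u w hu hw g hg s h
    have h1 : g * sie u w hu hw * g⁻¹ ∈ G → sie u w hu hw ∈ G := fun h2 => by
      simpa [mul_assoc] using mul_mem (mul_mem (inv_mem hg) h2) hg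
    refine h1 ?_
    rw [sie_conj]
    have hgw : polar Q ((g : V ≃ₗ[F] V) u) ((g : V ≃ₗ[F] V) w) = 0 := by rw [O.polar_app, hw]
    rcases h with h | h
    · rw [sie_congr _ _ (by rw [qmap_smul, he, mul_zero]) (by rw [← h]; exact hgw) h rfl]
      by_cases hs : s = 0
      · have : sie (Q := Q) (s • e) ((g : V ≃ₗ[F] V) w) (by rw [qmap_smul, he, mul_zero])
            (by rw [← h]; exact hgw) = 1 := O.ext_app fun x => by rw [sie_app]; simp [hs]
        rw [this]; exact one_mem G
      · have hp : polar Q e ((g : V ≃ₗ[F] V) w) = 0 := by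
          rw [h, polar_smul_left'] at hgw
          exact (mul_eq_zero.1 hgw).resolve_left hs
        rw [sie_smul he hp]; exact hE _ _
    · rw [sie_congr _ _ (by rw [qmap_smul, hf, mul_zero]) (by rw [← h]; exact hgw) h rfl]
      by_cases hs : s = 0
      · have : sie (Q := Q) (s • f) ((g : V ≃ₗ[F] V) w) (by rw [qmap_smul, hf, mul_zero])
            (by rw [← h]; exact hgw) = 1 := O.ext_app fun x => by rw [sie_app]; simp [hs]
        rw [this]; exact one_mem G
      · have hp : polar Q f ((g : V ≃ₗ[F] V) w) = 0 := by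
          rw [h, polar_smul_left'] at hgw
          exact (mul_eq_zero.1 hgw).resolve_left hs
        rw [sie_smul hf hp]; exact hF _ _
  have toE : ∀ u, Q u = 0 → polar Q u f ≠ 0 → ∃ g ∈ G, ∃ s : F, (g : V ≃ₗ[F] V) u = s • e := by
    intro u hu h
    obtain ⟨g, hg, hgu⟩ := exists_move_partner hf hF (u := (polar Q u f)⁻¹ • u) (v := e)
      (by rw [qmap_smul, hu, mul_zero]) he (by rw [polar_smul_left', inv_mul_cancel₀ h]) hef
    rw [map_smul, inv_smul_eq_iff₀ h] at hgu
    exact ⟨g, hg, _, hgu⟩
  rw [sieGroup, Subgroup.closure_le]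
  rintro _ ⟨u, w, hu, hw, rfl⟩
  rw [SetLike.mem_coe]
  by_cases hu0 : u = 0
  · have : sie u w hu hw = 1 := O.ext_app fun x => by rw [sie_app]; simp [hu0]
    rw [this]; exact one_mem G
  by_cases h1 : polar Q u f = 0
  swap
  · obtain ⟨g, hg, s, hs⟩ := toE u hu h1
    exact finish u w hu hw g hg s (Or.inl hs)
  by_cases h2 : polar Q u e = 0
  swap
  · obtain ⟨g, hg, hgu⟩ := exists_move_partner he hE (u := (polar Q u e)⁻¹ • u) (v := f)
      (by rw [qmap_smul, hu, mul_zero]) hf (by rw [polar_smul_left', inv_mul_cancel₀ h2]) hfe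
    rw [map_smul, inv_smul_eq_iff₀ h2] at hgu
    exact finish u w hu hw g hg _ (Or.inr hgu)
  -- `u` is orthogonal to both: first move it off the hyperplane
  obtain ⟨y, hy⟩ := hQ.exists_polar_ne hu0
  set x := y - polar Q e y • f with hx
  have hex : polar Q e x = 0 := by rw [hx, polar_sub_right, polar_smul_right', hef]; ring
  have hmv : polar Q ((sie e x he hex : V ≃ₗ[F] V) u) f ≠ 0 := by
    rw [sie_app, polar_comm (⇑Q) e u, h2, polar_sub_left, polar_add_left, polar_smul_left',
      polar_smul_left', h1, hef, hx, polar_sub_left, polar_smul_left', polar_comm (⇑Q) f u, h1,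
      polar_comm (⇑Q) y u]
    simpa using hy
  obtain ⟨g, hg, s, hs⟩ := toE _ (by rw [O.map_app, hu]) hmv
  exact finish u w hu hw (g * sie e x he hex) (mul_mem hg (hE x hex)) s
    (Or.inl (by rw [Subgroup.coe_mul, mul_app]; exact hs))

end Cfsg.Agent.H30.OrthTwoGen
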