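import Cfsg.Agent.Orthogonal.Eichler

/-!
Weyl-type and companion elements built from Eichler transformations.
-/

set_option autoImplicit false

namespace Cfsg.Agent.H30.OrthTwoGen

open QuadraticMap Module Cfsg.Agent.Orthogonal

variable {F V : Type*} [Field F] [AddCommGroup V] [Module F V]
variable {Q : QuadraticForm F V}

/-- Two orthogonal hyperbolic pairs. -/
structure Quad (Q : QuadraticForm F V) (e f e' f' : V) : Prop where
  qe : Q e = 0
  qf : Q f = 0
  qe' : Q e' = 0
  qf' : Q f' = 0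
  ef : polar Q e f = 1
  ef' : polar Q e' f' = 1
  ee : polar Q e e' = 0
  eF : polar Q e f' = 0
  fE : polar Q f e' = 0
  ff : polar Q f f' = 0

variable {e f e' f' : V}

theorem Quad.symm (h : Quad Q e f e' f') : Quad Q e' f' e f :=
  ⟨h.qe', h.qf', h.qe, h.qf, h.ef', h.ef, by rw [polar_comm]; exact h.ee,
    by rw [polar_comm]; exact h.fE, by rw [polar_comm]; exact h.eF, by rw [polar_comm]; exact h.ff⟩

theorem Quad.flip (h : Quad Q e f e' f') : Quad Q e f f' e' :=
  ⟨h.qe, h.qf, h.qf', h.qe', h.ef, by rw [polar_comm]; exact h.ef', h.eF, h.ee, h.ff, h.fE⟩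

theorem qsmul_zero {x : V} (hx : Q x = 0) (a : F) : Q (a • x) = 0 := by
  rw [qmap_smul, hx, mul_zero]

theorem polar_smul_zero {x y : V} (h : polar Q x y = 0) (a : F) : polar Q x (a • y) = 0 := by
  rw [polar_smul_right', h, mul_zero]

/-- `e' ↦ e' + a e`, `f ↦ f - a f'`. -/
noncomputable def up (h : Quad Q e f e' f') (a : F) : O Q :=
  sie e (a • f') h.qe (polar_smul_zero h.eF a)

theorem up_app (h : Quad Q e f e' f') (a : F) (x : V) :
    (up h a : V ≃ₗ[F] V) x = x + (a * polar Q f' x) • e - (a * polar Q e x) • f' := by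
  rw [up, sie_app, polar_smul_left', qsmul_zero h.qf' a, zero_mul, sub_zero, smul_smul, mul_comm (polar Q e x)]

theorem up_mem (h : Quad Q e f e' f') (a : F) : up h a ∈ sieGroup Q := sie_mem _ _

/-- `e ↦ e'`, `e' ↦ -e`, `f ↦ f'`, `f' ↦ -f`. -/
noncomputable def nEl (h : Quad Q e f e' f') : O Q := up h (-1) * up h.symm 1 * up h (-1)

theorem nEl_mem (h : Quad Q e f e' f') : nEl h ∈ sieGroup Q :=
  mul_mem (mul_mem (up_mem _ _) (up_mem _ _)) (up_mem _ _)

theorem nEl_app (h : Quad Q e f e' f') (x : V) :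
    (nEl h : V ≃ₗ[F] V) x = x + (polar Q f x) • (e' - e) + (polar Q f' x) • (-e - e')
      + (polar Q e x) • (f' - f) + (polar Q e' x) • (-f - f') := by
  have s := h.symm
  simp only [nEl, Subgroup.coe_mul, mul_app, up_app, polar_add_right, polar_sub_right,
    polar_smul_right', polar_self', h.qe, h.qf, h.qe', h.qf', h.ef, h.ef', h.ee, h.eF, h.fE, h.ff,
    s.ee, s.eF, s.fE, s.ff, polar_comm (⇑Q) f e, polar_comm (⇑Q) f' e', mul_zero]
  match_scalars <;> ring

theorem nEl_e (h : Quad Q e f e' f') : (nEl h : V ≃ₗ[F] V) e = e' := by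
  have s := h.symm
  simp only [nEl_app, polar_self', h.qe, polar_comm (⇑Q) f e, h.ef, s.fE, s.ee, mul_zero]
  module

theorem nEl_f (h : Quad Q e f e' f') : (nEl h : V ≃ₗ[F] V) f = f' := by
  have s := h.symm
  simp only [nEl_app, polar_self', h.qf, h.ef, s.ff, s.eF, mul_zero]
  module

theorem nEl_e' (h : Quad Q e f e' f') : (nEl h : V ≃ₗ[F] V) e' = -e := by
  simp only [nEl_app, polar_self', h.qe', polar_comm (⇑Q) f' e', h.ef', h.fE, h.ee, mul_zero]
  module

theorem nEl_f' (h : Quad Q e f e' f') : (nEl h : V ≃ₗ[F] V) f' = -f := by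
  simp only [nEl_app, polar_self', h.qf', h.ef', h.ff, h.eF, mul_zero]
  module

theorem nEl_fix (h : Quad Q e f e' f') {x : V} (h1 : polar Q e x = 0) (h2 : polar Q f x = 0)
    (h3 : polar Q e' x = 0) (h4 : polar Q f' x = 0) : (nEl h : V ≃ₗ[F] V) x = x := by
  simp [nEl_app, h1, h2, h3, h4]

/-- The companion element: `e ↦ e'`, `e' ↦ -e + t e'`. -/
noncomputable def cEl (h : Quad Q e f e' f') (t : F) : O Q := nEl h * up h t

theorem cEl_mem (h : Quad Q e f e' f') (t : F) : cEl h t ∈ sieGroup Q :=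
  mul_mem (nEl_mem _) (up_mem _ _)

theorem up_fix (h : Quad Q e f e' f') (a : F) {x : V} (h1 : polar Q e x = 0) (h4 : polar Q f' x = 0) :
    (up h a : V ≃ₗ[F] V) x = x := by simp [up_app, h1, h4]

theorem cEl_e (h : Quad Q e f e' f') (t : F) : (cEl h t : V ≃ₗ[F] V) e = e' := by
  rw [cEl, Subgroup.coe_mul, mul_app, up_fix h t (by rw [polar_self', h.qe, mul_zero])
    (by rw [polar_comm]; exact h.eF), nEl_e]

theorem cEl_f' (h : Quad Q e f e' f') (t : F) : (cEl h t : V ≃ₗ[F] V) f' = -f := by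
  rw [cEl, Subgroup.coe_mul, mul_app, up_fix h t h.eF (by rw [polar_self', h.qf', mul_zero]), nEl_f']

theorem cEl_e' (h : Quad Q e f e' f') (t : F) : (cEl h t : V ≃ₗ[F] V) e' = -e + t • e' := by
  have : (up h t : V ≃ₗ[F] V) e' = e' + t • e := by
    simp [up_app, h.ee, polar_comm (⇑Q) f' e', h.ef']
  rw [cEl, Subgroup.coe_mul, mul_app, this, map_add, map_smul, nEl_e', nEl_e]

theorem cEl_f (h : Quad Q e f e' f') (t : F) : (cEl h t : V ≃ₗ[F] V) f = f' + t • f := by
  have : (up h t : V ≃ₗ[F] V) f = f - t • f' := by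
    simp [up_app, h.ef, h.symm.ff]
  rw [cEl, Subgroup.coe_mul, mul_app, this, map_sub, map_smul, nEl_f, nEl_f', smul_neg, sub_neg_eq_add]

theorem cEl_fix (h : Quad Q e f e' f') (t : F) {x : V} (h1 : polar Q e x = 0) (h2 : polar Q f x = 0)
    (h3 : polar Q e' x = 0) (h4 : polar Q f' x = 0) : (cEl h t : V ≃ₗ[F] V) x = x := by
  rw [cEl, Subgroup.coe_mul, mul_app, up_fix h t h1 h4, nEl_fix h h1 h2 h3 h4]

/-- The Weyl element of a short root: `e ↦ -c⁻¹ f`, `f ↦ -c e`, and the reflection in `z`. -/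
noncomputable def sEl {z : V} (he : Q e = 0) (hf : Q f = 0) (hez : polar Q e z = 0)
    (hfz : polar Q f z = 0) : O Q :=
  sie e z he hez * sie f ((Q z)⁻¹ • z) hf (polar_smul_zero hfz _) * sie e z he hez

section Short

variable {z : V} (he : Q e = 0) (hf : Q f = 0) (hef : polar Q e f = 1) (hez : polar Q e z = 0)
  (hfz : polar Q f z = 0) (hz : Q z ≠ 0)

theorem sEl_mem : sEl he hf hez hfz ∈ sieGroup Q :=
  mul_mem (mul_mem (sie_mem _ _) (sie_mem _ _)) (sie_mem _ _)

include hef hz

theorem sEl_app (x : V) :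
    (sEl he hf hez hfz : V ≃ₗ[F] V) x = x + (polar Q f x) • (-e - (Q z)⁻¹ • f)
      + (polar Q e x) • (-f - (Q z) • e) - ((Q z)⁻¹ * polar Q z x) • z := by
  simp only [sEl, Subgroup.coe_mul, mul_app, sie_app, polar_add_right, polar_sub_right,
    polar_smul_right', polar_smul_left', qmap_smul, polar_self', he, hf, hef, hez, hfz,
    polar_comm (⇑Q) f e, polar_comm (⇑Q) z e, polar_comm (⇑Q) z f, mul_zero]
  match_scalars <;> field_simp <;> ring

theorem sEl_e : (sEl he hf hez hfz : V ≃ₗ[F] V) e = (-(Q z)⁻¹) • f := by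
  rw [sEl_app he hf hef hez hfz hz, polar_self', he, polar_comm (⇑Q) f e, hef, polar_comm (⇑Q) z e, hez]
  module

theorem sEl_f : (sEl he hf hez hfz : V ≃ₗ[F] V) f = (-(Q z)) • e := by
  rw [sEl_app he hf hef hez hfz hz, polar_self', hf, hef, polar_comm (⇑Q) z f, hfz]
  module

theorem sEl_perp {x : V} (h1 : polar Q e x = 0) (h2 : polar Q f x = 0) :
    (sEl he hf hez hfz : V ≃ₗ[F] V) x = x - ((Q z)⁻¹ * polar Q z x) • z := by
  rw [sEl_app he hf hef hez hfz hz, h1, h2]
  module

end Short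

/-! ### The order of the companion element -/

/-- The companion matrix of `X² - tX + 1`. -/
def comp (t : F) : Matrix (Fin 2) (Fin 2) F := !![0, -1; 1, t]

theorem comp_pow_succ (t : F) (n : ℕ) :
    (comp t ^ (n + 1)) 0 0 = -(comp t ^ n) 1 0 ∧
      (comp t ^ (n + 1)) 1 0 = (comp t ^ n) 0 0 + t * (comp t ^ n) 1 0 := by
  rw [pow_succ']
  constructor <;> simp [Matrix.mul_apply, comp, Fin.sum_univ_two]

theorem pow_app_of_quadratic {T : V ≃ₗ[F] V} {t : F} {v : V} (hv : T (T v) = t • T v - v) (n : ℕ) :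
    (T ^ n) v = (comp t ^ n) 0 0 • v + (comp t ^ n) 1 0 • T v := by
  induction n with
  | zero => simp
  | succ n ih =>
    obtain ⟨h1, h2⟩ := comp_pow_succ t n
    rw [pow_succ', mul_app, ih, map_add, map_smul, map_smul, hv, h1, h2]
    module

theorem comp_pow_card_sq [Fintype F] {t : F} (ht : t ^ 2 ≠ 4) :
    comp t ^ (Fintype.card F ^ 2) = comp t := by
  obtain ⟨p, hp⟩ := CharP.exists F
  haveI : Fact p.Prime := ⟨CharP.char_is_prime F p⟩
  obtain ⟨n, hn, hq⟩ := FiniteField.card F p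
  set q := Fintype.card F with hqdef
  set M := comp t with hM
  have hM2 : M * M = t • M - 1 := by
    ext i j; fin_cases i <;> fin_cases j <;> simp [hM, comp, Matrix.mul_apply, Fin.sum_univ_two] <;> ring
  have hlin : ∀ m : ℕ, ∃ α β : F, M ^ m = α • M + β • 1 := by
    intro m
    induction m with
    | zero => exact ⟨0, 1, by simp⟩
    | succ m ih =>
      obtain ⟨α, β, h⟩ := ih
      refine ⟨α * t + β, -α, ?_⟩
      rw [pow_succ, h, add_mul, smul_mul_assoc, smul_mul_assoc, hM2, one_mul]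
      module
  have hfrob : ∀ a : F, a ^ q = a := fun a => FiniteField.pow_card a
  obtain ⟨α, β, h⟩ := hlin q
  have hroot : M ^ q * M ^ q - t • M ^ q + 1 = 0 := by
    have e0 : (M * M - t • M + 1) = 0 := by rw [hM2]; abel
    have : (M * M - t • M + 1) ^ q = (0 : Matrix (Fin 2) (Fin 2) F) ^ q := by rw [e0]
    rw [zero_pow (Fintype.card_ne_zero), hq] at this
    have c1 : Commute (M * M - t • M) (1 : Matrix (Fin 2) (Fin 2) F) := Commute.one_right _
    have c2 : Commute (M * M) (t • M) := ((Commute.refl M).mul_left (Commute.refl M)).smul_right t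
    rw [add_pow_char_pow_of_commute p _ c1, sub_pow_char_pow_of_commute p _ c2, smul_pow, one_pow,
      (Commute.refl M).mul_pow, ← hq, hfrob] at this
    exact this
  rw [h, add_mul, mul_add, mul_add, smul_mul_assoc, smul_mul_assoc, smul_mul_assoc, smul_mul_assoc,
    mul_smul_comm, mul_smul_comm, hM2, mul_one] at hroot
  simp only [one_mul, mul_one, mul_smul_comm, smul_mul_assoc] at hroot
  have hroot' : (α * (α * t + 2 * β - t)) • M +
      (β ^ 2 - α ^ 2 - t * β + 1) • (1 : Matrix (Fin 2) (Fin 2) F) = 0 := by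
    linear_combination (norm := module) hroot
  have h10 : α * (α * t + 2 * β - t) = 0 := by
    have := congrFun (congrFun hroot' 1) 0
    simpa [hM, comp] using this
  have h00 : β ^ 2 - α ^ 2 - t * β + 1 = 0 := by
    have := congrFun (congrFun hroot' 0) 0
    simpa [hM, comp] using this
  by_cases h0 : α = 0
  · exfalso
    rw [h0, zero_smul, zero_add] at h
    -- a Frobenius power of `M` is scalar, so `M - β` is nilpotent
    have hc : Commute M (β • (1 : Matrix (Fin 2) (Fin 2) F)) := (Commute.one_right M).smul_right β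
    have hnil : IsNilpotent (M - β • 1) := by
      refine ⟨q, ?_⟩
      rw [hq, sub_pow_char_pow_of_commute p _ hc, smul_pow, ← hq, hfrob, one_pow, h, sub_self]
    have hs := (Matrix.isNilpotent_trace_of_isNilpotent hnil).eq_zero
    have hd : (M - β • 1).det = 0 := by
      obtain ⟨k, hk⟩ := hnil
      exact eq_zero_of_pow_eq_zero (n := k) (by rw [← Matrix.det_pow, hk, Matrix.det_zero])
    simp [hM, comp, Matrix.trace_fin_two, Matrix.det_fin_two] at hs hd
    exact ht (by linear_combination (t - 2 * β) * hs - 4 * hd)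
  have hb : α * t + 2 * β - t = 0 := (mul_eq_zero.1 h10).resolve_left h0
  have k1 : (α ^ 2 - 1) * (t ^ 2 - 4) = 0 := by
    linear_combination (4 : F) * h00 + (α * t + t - 2 * β) * hb
  have hα : α ^ 2 = 1 :=
    sub_eq_zero.1 ((mul_eq_zero.1 k1).resolve_right (sub_ne_zero.2 ht))
  have hz : (α + 1) * β = 0 := by
    rcases sq_eq_one_iff.1 hα with e | e
    · rw [e] at hb ⊢
      linear_combination hb
    · rw [e, neg_add_cancel, zero_mul]
  have hc : Commute (α • M) (β • (1 : Matrix (Fin 2) (Fin 2) F)) :=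
    ((Commute.one_right M).smul_left α).smul_right β
  rw [pow_two, pow_mul, h, hq, add_pow_char_pow_of_commute p _ hc, smul_pow, smul_pow, ← hq, hfrob,
    hfrob, one_pow, h, smul_add, smul_smul, smul_smul, ← pow_two, hα, add_assoc, ← add_smul,
    show α * β + β = 0 by linear_combination hz, zero_smul, add_zero, one_smul]

theorem cEl_pow_eq_one [Fintype F] (h : Quad Q e f e' f') {t : F} (ht : t ^ 2 ≠ 4)
    (hsplit : ∀ x : V, ∃ a b c d : F, ∃ y : V, x = a • e + b • f + c • e' + d • f' + y ∧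
      polar Q e y = 0 ∧ polar Q f y = 0 ∧ polar Q e' y = 0 ∧ polar Q f' y = 0) :
    cEl h t ^ (Fintype.card F ^ 2 - 1) = 1 := by
  set N := Fintype.card F ^ 2 - 1
  set T := (cEl h t : V ≃ₗ[F] V) with hT
  have hN : N + 1 = Fintype.card F ^ 2 := Nat.sub_add_cancel (Nat.one_le_pow _ _ Fintype.card_pos)
  have hM := comp_pow_card_sq ht
  rw [← hN] at hM
  obtain ⟨h1, h2⟩ := comp_pow_succ t N
  rw [hM] at h1 h2
  rw [show comp t 0 0 = (0 : F) by simp [comp]] at h1
  rw [show comp t 1 0 = (1 : F) by simp [comp]] at h2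
  have b0 : (comp t ^ N) 1 0 = 0 := neg_eq_zero.1 h1.symm
  have a1 : (comp t ^ N) 0 0 = 1 := by rw [b0, mul_zero, add_zero] at h2; exact h2.symm
  have key : ∀ v, T (T v) = t • T v - v → (T ^ N) v = v := fun v hv => by
    rw [pow_app_of_quadratic hv, b0, a1, one_smul, zero_smul, add_zero]
  have he : (T ^ N) e = e := key e (by rw [hT, cEl_e, cEl_e']; abel)
  have he' : (T ^ N) e' = e' := key e' (by
    rw [hT, cEl_e', map_add, map_neg, map_smul, cEl_e, cEl_e']; module)
  have hf : (T ^ N) f = f := key f (by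
    rw [hT, cEl_f, map_add, map_smul, cEl_f', cEl_f]; module)
  have hf' : (T ^ N) f' = f' := key f' (by
    rw [hT, cEl_f', map_neg, cEl_f]; module)
  refine O.ext_app fun x => ?_
  obtain ⟨a, b, c, d, y, rfl, y1, y2, y3, y4⟩ := hsplit x
  have hy : (T ^ N) y = y := by
    clear h1 h2 hM hN
    induction N with
    | zero => rfl
    | succ k ih =>
      rw [pow_succ, mul_app, hT, cEl_fix h t y1 y2 y3 y4]
      exact ih
  rw [SubgroupClass.coe_pow, ← hT]
  simp only [map_add, map_smul, he, hf, he', hf', hy]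
  rfl

theorem Quad.split (h : Quad Q e f e' f') (x : V) : ∃ a b c d : F, ∃ y : V,
    x = a • e + b • f + c • e' + d • f' + y ∧
      polar Q e y = 0 ∧ polar Q f y = 0 ∧ polar Q e' y = 0 ∧ polar Q f' y = 0 := by
  refine ⟨polar Q f x, polar Q e x, polar Q f' x, polar Q e' x,
    x - (polar Q f x • e + polar Q e x • f + polar Q f' x • e' + polar Q e' x • f'), by abel, ?_, ?_, ?_, ?_⟩ <;>
    simp only [polar_sub_right, polar_add_right, polar_smul_right', polar_self', h.qe, h.qf, h.qe',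
      h.qf', h.ef, h.ef', h.ee, h.eF, h.fE, h.ff, h.symm.ee, h.symm.eF, h.symm.fE, h.symm.ff,
      polar_comm (⇑Q) f e, polar_comm (⇑Q) f' e'] <;> ring

end Cfsg.Agent.H30.OrthTwoGen
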