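import Cfsg.Agent.H30.OrthTwoGen.GenThree
import Cfsg.Agent.Orthogonal.StdForms

/-!
Two generators for the projective orthogonal groups of plus and minus type.
-/

set_option autoImplicit false

namespace Cfsg.Agent.H30.OrthTwoGen

open QuadraticMap Module Cfsg.Agent.Orthogonal

variable {F : Type*} [Field F] [Fintype F]

theorem two_gen_plus (n : ℕ) (hn : 3 ≤ n) :
    ∃ a b : Cfsg.POmega F (Cfsg.quadFormPlus (n + 1) F),
      Subgroup.closure ({a, b} : Set (Cfsg.POmega F (Cfsg.quadFormPlus (n + 1) F))) = ⊤ := by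
  have hQ := formPlus_nondeg F (n + 1)
  have hF := formPlus_frame F (n + 1)
  refine exists_two_gen_POmega (Q := formPlus F (n + 1)) hQ (by rw [finrank_formPlus]; omega) ?_
  set e : ℕ → Fin (n + 1) ⊕ Fin (n + 1) → F := fun i => if hi : i < n + 1 then stdE F (n + 1) ⟨i, hi⟩ else 0
  set f : ℕ → Fin (n + 1) ⊕ Fin (n + 1) → F := fun i => if hi : i < n + 1 then stdF F (n + 1) ⟨i, hi⟩ else 0
  have h' : NFrame (formPlus F (n + 1)) (n + 1) e f := NFrame.of_isFrame hF
  have h : NFrame (formPlus F (n + 1)) n e f :=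
    ⟨fun i hi => h'.qe i (by omega), fun i hi => h'.qf i (by omega),
      fun i hi j hj => h'.ef i (by omega) j (by omega), fun i hi j hj => h'.ee i (by omega) j (by omega),
      fun i hi j hj => h'.ff i (by omega) j (by omega)⟩
  have hl : n < n + 1 := by omega
  have k1 : InKer (formPlus F (n + 1)) n e f (e n) := fun i hi =>
    ⟨h'.ee i (by omega) n hl, by rw [h'.fe i (by omega) n hl, if_neg (by omega)]⟩
  have k2 : InKer (formPlus F (n + 1)) n e f (f n) := fun i hi =>
    ⟨by rw [h'.ef i (by omega) n hl, if_neg (by omega)], h'.ff i (by omega) n hl⟩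
  have hef : polar (formPlus F (n + 1)) (e n) (f n) = 1 := by rw [h'.ef n hl n hl, if_pos rfl]
  refine two_gen_of_three hQ h hn (z := e n + f n) (z1 := e n) (fun i hi => ?_) k1 ?_ ?_ (fun x hx => ?_)
  · rw [polar_add_right, polar_add_right, (k1 i hi).1, (k2 i hi).1, (k1 i hi).2, (k2 i hi).2]; simp
  · rw [map_add_polar, h'.qe n hl, h'.qf n hl, hef]; simp
  · rw [polar_add_left, polar_self', h'.qe n hl, polar_comm (⇑(formPlus F (n + 1))) (f n), hef]; simp
  · set a := polar (formPlus F (n + 1)) (e n) x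
    set b := polar (formPlus F (n + 1)) (f n) x
    refine ⟨a, b - a, ?_⟩
    rw [show a • (e n + f n) + (b - a) • e n = b • e n + a • f n by module]
    refine sub_eq_zero.1 (?_ : x - (b • e n + a • f n) = 0)
    have hk : x - (b • e n + a • f n) ∈
        IsFrame.kernel (formPlus F (n + 1)) (stdE F (n + 1)) (stdF F (n + 1)) := by
      refine IsFrame.mem_kernel.2 ⟨fun i => ?_, fun i => ?_⟩
      · have ei : stdE F (n + 1) i = e i := by simp only [e]; rw [dif_pos i.2]
        rw [ei, polar_sub_right, polar_add_right, polar_smul_right', polar_smul_right', h'.ee i i.2 n hl,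
          h'.ef i i.2 n hl]
        rcases Nat.lt_succ_iff_lt_or_eq.1 i.2 with hi | hi
        · rw [(hx i hi).1, if_neg (by omega)]; ring
        · rw [hi, if_pos rfl]; ring
      · have fi : stdF F (n + 1) i = f i := by simp only [f]; rw [dif_pos i.2]
        rw [fi, polar_sub_right, polar_add_right, polar_smul_right', polar_smul_right', h'.fe i i.2 n hl,
          h'.ff i i.2 n hl]
        rcases Nat.lt_succ_iff_lt_or_eq.1 i.2 with hi | hi
        · rw [(hx i hi).2, if_neg (by omega)]; ring
        · rw [hi, if_pos rfl]; ring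
    rwa [formPlus_kernel, Submodule.mem_bot] at hk

theorem two_gen_minus (n : ℕ) (hn : 3 ≤ n) (a b : F)
    (hab : ∀ z₁ z₂ : F, z₁ ^ 2 + a * z₁ * z₂ + b * z₂ ^ 2 = 0 → z₁ = 0 ∧ z₂ = 0) :
    ∃ g h : Cfsg.POmega F (Cfsg.quadFormMinus n F a b),
      Subgroup.closure ({g, h} : Set (Cfsg.POmega F (Cfsg.quadFormMinus n F a b))) = ⊤ := by
  have hQ := formMinus_nondeg n hab
  have hF := formMinus_frame F n a b
  refine exists_two_gen_POmega (Q := formMinus F n a b) hQ (by rw [finrank_formMinus]; omega) ?_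
  have h := NFrame.of_isFrame hF
  obtain ⟨c, hc⟩ : ∃ c : F, 2 * c + a ≠ 0 := by
    by_cases ha : a = 0
    · exact ⟨1, fun h0 => aniso_binary hab (by rw [ha] at h0 ⊢; linear_combination (-2 * b) * h0)⟩
    · exact ⟨0, by simpa using ha⟩
  set z : (Fin n ⊕ Fin n) ⊕ Fin 2 → F := Pi.single (.inr 0) 1 with hz
  set u : (Fin n ⊕ Fin n) ⊕ Fin 2 → F := Pi.single (.inr 1) 1 with hu
  have hQz : formMinus F n a b z = 1 := by simp [hz, formMinus_coe, Cfsg.quadFormMinus]
  refine two_gen_of_three hQ h hn (z := z) (z1 := c • z + u) (fun i hi => ?_) (fun i hi => ?_) ?_ ?_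
    (fun x hx => ?_)
  · simp [hz, hi, polar_formMinus, stdMinusE, stdMinusF, Pi.single_apply]
  · simp [hz, hu, hi, polar_formMinus, stdMinusE, stdMinusF, Pi.single_apply]
  · rw [hQz]; exact one_ne_zero
  · have : polar (formMinus F n a b) z (c • z + u) = 2 * c + a := by
      rw [polar_add_right, polar_smul_right', polar_self', hQz]
      simp [hz, hu, polar_formMinus]
      ring
    rwa [this]
  · have hr : ∀ i : Fin n, x (.inl (.inl i)) = 0 ∧ x (.inl (.inr i)) = 0 := fun i => by
      have h1 := hx i i.2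
      simp only [i.2, dite_true] at h1
      exact ⟨by simpa [polar_formMinus, stdMinusF, Pi.single_apply, Finset.sum_add_distrib] using h1.2,
        by simpa [polar_formMinus, stdMinusE, Pi.single_apply, Finset.sum_add_distrib] using h1.1⟩
    refine ⟨x (.inr 0) - c * x (.inr 1), x (.inr 1), ?_⟩
    funext s
    rcases s with (i | i) | j
    · simp [hz, hu, (hr i).1]
    · simp [hz, hu, (hr i).2]
    · fin_cases j
      · simp [hz, hu]; ring
      · simp [hz, hu]

end Cfsg.Agent.H30.OrthTwoGen
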