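import Cfsg.Agent.H30.OrthTwoGen.Elements
import Cfsg.Agent.H30.OrthTwoGen.Closure

/-!
Frames indexed by natural numbers, the cyclic Weyl element, and the choice of the field parameter.
-/

set_option autoImplicit false

namespace Cfsg.Agent.H30.OrthTwoGen

open QuadraticMap Module Cfsg.Agent.Orthogonal

variable {F V : Type*} [Field F] [AddCommGroup V] [Module F V]
variable {Q : QuadraticForm F V}

/-- A frame of `k` hyperbolic pairs indexed by the numbers below `k`. -/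
structure NFrame (Q : QuadraticForm F V) (k : ℕ) (e f : ℕ → V) : Prop where
  qe : ∀ i, i < k → Q (e i) = 0
  qf : ∀ i, i < k → Q (f i) = 0
  ef : ∀ i, i < k → ∀ j, j < k → polar Q (e i) (f j) = if i = j then 1 else 0
  ee : ∀ i, i < k → ∀ j, j < k → polar Q (e i) (e j) = 0
  ff : ∀ i, i < k → ∀ j, j < k → polar Q (f i) (f j) = 0

namespace NFrame

variable {k : ℕ} {e f : ℕ → V}

theorem fe (h : NFrame Q k e f) (i : ℕ) (hi : i < k) (j : ℕ) (hj : j < k) :
    polar Q (f i) (e j) = if i = j then 1 else 0 := by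
  rw [polar_comm, h.ef j hj i hi]; simp [eq_comm]

theorem quad (h : NFrame Q k e f) {i j : ℕ} (hi : i < k) (hj : j < k) (hij : i ≠ j) :
    Quad Q (e i) (f i) (e j) (f j) :=
  ⟨h.qe i hi, h.qf i hi, h.qe j hj, h.qf j hj, by rw [h.ef i hi i hi, if_pos rfl],
    by rw [h.ef j hj j hj, if_pos rfl], h.ee i hi j hj, by rw [h.ef i hi j hj, if_neg hij],
    by rw [h.fe i hi j hj, if_neg hij], h.ff i hi j hj⟩

theorem of_isFrame {e f : Fin k → V} (h : IsFrame Q e f) :
    NFrame Q k (fun i => if hi : i < k then e ⟨i, hi⟩ else 0)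
      (fun i => if hi : i < k then f ⟨i, hi⟩ else 0) := by
  refine ⟨fun i hi => ?_, fun i hi => ?_, fun i hi j hj => ?_, fun i hi j hj => ?_, fun i hi j hj => ?_⟩ <;>
    simp only [dif_pos hi]
  · exact h.qe _
  · exact h.qf _
  · simp only [dif_pos hj, h.ef, Fin.mk.injEq]
  · simp only [dif_pos hj, h.ee]
  · simp only [dif_pos hj, h.ff]

end NFrame

/-- The orthogonal of the frame. -/
def InKer (Q : QuadraticForm F V) (k : ℕ) (e f : ℕ → V) (x : V) : Prop :=
  ∀ i, i < k → polar Q (e i) x = 0 ∧ polar Q (f i) x = 0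

/-- The reflection in `z`. -/
def refl' (Q : QuadraticForm F V) (z x : V) : V := x - ((Q z)⁻¹ * polar Q z x) • z

theorem refl'_inKer {k : ℕ} {e f : ℕ → V} {z x : V} (hz : InKer Q k e f z) (hx : InKer Q k e f x) :
    InKer Q k e f (refl' Q z x) := fun i hi => by
  simp [refl', polar_sub_right, polar_smul_right', (hz i hi).1, (hz i hi).2, (hx i hi).1, (hx i hi).2]

theorem nEl_conj_up {e f e' f' a b a' b' : V} (h : Quad Q e f e' f') (h' : Quad Q a b a' b') (g : O Q)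
    (h1 : (g : V ≃ₗ[F] V) e = a) (h4 : (g : V ≃ₗ[F] V) f' = b') (c : F) :
    g * up h c * g⁻¹ = up h' c := by
  rw [up, up, sie_conj]
  exact sie_congr _ _ _ _ h1 (by rw [map_smul, h4])

theorem cEl_conj {e f e' f' a b a' b' : V} (h : Quad Q e f e' f') (h' : Quad Q a b a' b') (g : O Q)
    (h1 : (g : V ≃ₗ[F] V) e = a) (h2 : (g : V ≃ₗ[F] V) f = b) (h3 : (g : V ≃ₗ[F] V) e' = a')
    (h4 : (g : V ≃ₗ[F] V) f' = b') (t : F) :
    g * cEl h t * g⁻¹ = cEl h' t := by
  simp only [cEl, nEl]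
  rw [← nEl_conj_up h h' g h1 h4 t, ← nEl_conj_up h h' g h1 h4 (-1),
    ← nEl_conj_up h.symm h'.symm g h3 h2 1]
  group

/-- The cyclic Weyl element of the frame, twisted by the reflection in `z`. -/
theorem exists_cycle {k : ℕ} {e f : ℕ → V} (h : NFrame Q k e f) {z : V} (hz : InKer Q k e f z)
    (hQz : Q z ≠ 0) : ∀ j, j < k → ∃ w ∈ sieGroup Q,
      (∀ i, i < j → (w : V ≃ₗ[F] V) (e i) = e (i + 1) ∧ (w : V ≃ₗ[F] V) (f i) = f (i + 1)) ∧
      (∀ i, j < i → i < k → (w : V ≃ₗ[F] V) (e i) = e i ∧ (w : V ≃ₗ[F] V) (f i) = f i) ∧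
      (∃ c : F, c ≠ 0 ∧ (w : V ≃ₗ[F] V) (e j) = c • f 0) ∧
      (∃ c : F, c ≠ 0 ∧ (w : V ≃ₗ[F] V) (f j) = c • e 0) ∧
      (∀ x, InKer Q k e f x → (w : V ≃ₗ[F] V) x = refl' Q z x) := by
  intro j
  induction j with
  | zero =>
    intro hk
    have he := h.qe 0 hk
    have hf := h.qf 0 hk
    have hef : polar Q (e 0) (f 0) = 1 := by rw [h.ef 0 hk 0 hk, if_pos rfl]
    refine ⟨sEl he hf (hz 0 hk).1 (hz 0 hk).2, sEl_mem _ _ _ _, fun i hi => absurd hi (Nat.not_lt_zero i),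
      fun i h0 hi => ⟨?_, ?_⟩, ⟨_, by simpa using hQz, sEl_e _ _ hef _ _ hQz⟩,
      ⟨_, by simpa using hQz, sEl_f _ _ hef _ _ hQz⟩,
      fun x hx => sEl_perp _ _ hef _ _ hQz (hx 0 hk).1 (hx 0 hk).2⟩
    · rw [sEl_perp _ _ hef _ _ hQz (h.ee 0 hk i hi) (by rw [h.fe 0 hk i hi, if_neg (by omega)]),
        polar_comm (⇑Q) z (e i), (hz i hi).1]
      simp
    · rw [sEl_perp _ _ hef _ _ hQz (by rw [h.ef 0 hk i hi, if_neg (by omega)]) (h.ff 0 hk i hi),
        polar_comm (⇑Q) z (f i), (hz i hi).2]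
      simp
  | succ j ih =>
    intro hj
    have hj0 : j < k := by omega
    obtain ⟨w, hw, h1, h2, ⟨c, hc, h3⟩, ⟨c', hc', h4⟩, h5⟩ := ih hj0
    have hq := h.quad hj0 hj (by omega)
    have hfix : ∀ i, i < k → i ≠ j → i ≠ j + 1 →
        (nEl hq : V ≃ₗ[F] V) (e i) = e i ∧ (nEl hq : V ≃ₗ[F] V) (f i) = f i := fun i hi n1 n2 =>
      ⟨nEl_fix hq (h.ee _ hj0 _ hi) (by rw [h.fe _ hj0 _ hi, if_neg (Ne.symm n1)]) (h.ee _ hj _ hi)
        (by rw [h.fe _ hj _ hi, if_neg (Ne.symm n2)]),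
      nEl_fix hq (by rw [h.ef _ hj0 _ hi, if_neg (Ne.symm n1)]) (h.ff _ hj0 _ hi)
        (by rw [h.ef _ hj _ hi, if_neg (Ne.symm n2)]) (h.ff _ hj _ hi)⟩
    refine ⟨w * nEl hq, mul_mem hw (nEl_mem hq), fun i hi => ?_, fun i h0 hi => ?_,
      ⟨-c, neg_ne_zero.2 hc, ?_⟩, ⟨-c', neg_ne_zero.2 hc', ?_⟩, fun x hx => ?_⟩
    · rcases Nat.lt_succ_iff_lt_or_eq.1 hi with hi' | rfl
      · obtain ⟨a, b⟩ := hfix i (by omega) (by omega) (by omega)
        simp only [Subgroup.coe_mul, mul_app, a, b]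
        exact h1 i hi'
      · simp only [Subgroup.coe_mul, mul_app, nEl_e hq, nEl_f hq]
        exact h2 _ (Nat.lt_succ_self i) hj
    · obtain ⟨a, b⟩ := hfix i hi (by omega) (by omega)
      simp only [Subgroup.coe_mul, mul_app, a, b]
      exact h2 i (by omega) hi
    · rw [Subgroup.coe_mul, mul_app, nEl_e' hq, map_neg, h3, neg_smul]
    · rw [Subgroup.coe_mul, mul_app, nEl_f' hq, map_neg, h4, neg_smul]
    · rw [Subgroup.coe_mul, mul_app,
        nEl_fix hq (hx _ hj0).1 (hx _ hj0).2 (hx _ hj).1 (hx _ hj).2, h5 x hx]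

/-- The field parameter: `t² ≠ 4` and `t` generates `F` as an additive group with multiplication by `t`. -/
theorem exists_param (F : Type*) [Field F] [Finite F] :
    ∃ t : F, t ^ 2 ≠ 4 ∧ ∀ S : AddSubgroup F, (1 : F) ∈ S → (∀ x ∈ S, t * x ∈ S) → S = ⊤ := by
  obtain ⟨g, hg⟩ := IsCyclic.exists_monoid_generator (α := Fˣ)
  by_cases h4 : (g : F) ^ 2 = 4
  · refine ⟨0, fun h => ?_, fun S h1 _ => eq_top_iff.2 fun x _ => ?_⟩
    · apply pow_ne_zero 2 g.ne_zero
      rw [h4, ← h]; ring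
    · have hg2 : (g : F) = 2 ∨ (g : F) = -2 := by
        have : ((g : F) - 2) * ((g : F) + 2) = 0 := by linear_combination h4
        rcases mul_eq_zero.1 this with h | h
        · exact Or.inl (sub_eq_zero.1 h)
        · exact Or.inr (eq_neg_of_add_eq_zero_left h)
      have hint : ∃ n : ℤ, x = n := by
        by_cases hx : x = 0
        · exact ⟨0, by simp [hx]⟩
        obtain ⟨n, hn⟩ := Submonoid.mem_powers_iff _ _ |>.1 (hg (Units.mk0 x hx))
        have : x = (g : F) ^ n := by rw [← Units.val_pow_eq_pow_val, hn]; rfl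
        rcases hg2 with h | h
        · exact ⟨2 ^ n, by rw [this, h]; push_cast; rfl⟩
        · exact ⟨(-2) ^ n, by rw [this, h]; push_cast; rfl⟩
      obtain ⟨n, rfl⟩ := hint
      simpa using S.zsmul_mem h1 n
  · refine ⟨g, h4, fun S h1 hS => eq_top_iff.2 fun x _ => ?_⟩
    by_cases hx : x = 0
    · rw [hx]; exact S.zero_mem
    obtain ⟨n, hn⟩ := Submonoid.mem_powers_iff _ _ |>.1 (hg (Units.mk0 x hx))
    have : x = (g : F) ^ n := by rw [← Units.val_pow_eq_pow_val, hn]; rfl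
    subst this
    clear hn hx
    induction n with
    | zero => simpa using h1
    | succ n ih => rw [pow_succ']; exact hS _ (ih trivial)

end Cfsg.Agent.H30.OrthTwoGen
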