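import Cfsg.Agent.H30.OrthTwoGen.Frames

/-!
Two Eichler products generating the Eichler group of a space with at least three hyperbolic pairs.
-/

set_option autoImplicit false

namespace Cfsg.Agent.H30.OrthTwoGen

open QuadraticMap Module Cfsg.Agent.Orthogonal

variable {F V : Type*} [Field F] [AddCommGroup V] [Module F V]
variable {Q : QuadraticForm F V}

theorem sie_pow {u w : V} (hu : Q u = 0) (hw : polar Q u w = 0) (n : ℕ) :
    sie u w hu hw ^ n = sie u ((n : F) • w) hu (by rw [polar_smul_right', hw, mul_zero]) := by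
  induction n with
  | zero => refine O.ext_app fun x => ?_; rw [sie_app]; simp
  | succ n ih =>
    rw [pow_succ, ih, sie_mul]
    exact sie_congr _ _ _ _ rfl (by push_cast; rw [add_smul, one_smul])

/-- A singular transformation written with the roles exchanged. -/
theorem sie_swap {u w : V} (hu : Q u = 0) (hw : polar Q u w = 0) (hQw : Q w = 0) :
    sie u w hu hw = sie w (-u) hQw (by rw [polar_neg_right, polar_comm, hw, neg_zero]) := by
  refine O.ext_app fun x => ?_
  simp only [sie_app, hQw, QuadraticMap.map_neg, hu, polar_neg_left, zero_mul, sub_zero]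
  module

/-- Both factors of a product of commuting elements, of orders dividing `q² - 1` and `q`, are powers of it. -/
theorem mem_of_coprime_mul {Γ : Type*} [Group Γ] {G : Subgroup Γ} {c r : Γ} (hcr : Commute c r) {q : ℕ}
    (hq : 0 < q) (hc : c ^ (q ^ 2 - 1) = 1) (hr : r ^ q = 1) (h : c * r ∈ G) : c ∈ G ∧ r ∈ G := by
  have h1 : c ^ q ∈ G := by
    have := G.pow_mem h q
    rwa [hcr.mul_pow, hr, mul_one] at this
  have hcq : c ^ (q ^ 2) = c := by
    rw [show q ^ 2 = q ^ 2 - 1 + 1 by have := Nat.one_le_pow 2 q hq; omega, pow_succ, hc, one_mul]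
  have h2 : c ∈ G := by
    rw [← hcq, pow_two, pow_mul]
    exact G.pow_mem h1 q
  exact ⟨h2, by simpa using G.mul_mem (G.inv_mem h2) h⟩

variable {k : ℕ} {e f : ℕ → V}

/-- The orthogonal of the `e`-part of the frame. -/
def EPerp (Q : QuadraticForm F V) (k : ℕ) (e : ℕ → V) (x : V) : Prop :=
  ∀ i, i < k → polar Q (e i) x = 0

/-- The span of the `e`-part of the frame. -/
def espan (F : Type*) [Field F] {V : Type*} [AddCommGroup V] [Module F V] (k : ℕ) (e : ℕ → V) : Submodule F V :=
  Submodule.span F (e '' {i | i < k})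

theorem e_mem_espan {i : ℕ} (hi : i < k) : e i ∈ espan F k e :=
  Submodule.subset_span ⟨i, hi, rfl⟩

theorem espan_perp (h : NFrame Q k e f) {u : V} (hu : u ∈ espan F k e) :
    EPerp Q k e u := by
  intro i hi
  induction hu using Submodule.span_induction with
  | mem x hx => obtain ⟨j, hj, rfl⟩ := hx; exact h.ee i hi j hj
  | zero => exact polar_zero_right (Q := Q) _
  | add x y _ _ hx hy => rw [polar_add_right, hx, hy, add_zero]
  | smul a x _ hx => rw [polar_smul_right', hx, mul_zero]

theorem polar_espan {u x : V} (hu : u ∈ espan F k e) (hx : EPerp Q k e x) : polar Q u x = 0 := by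
  induction hu using Submodule.span_induction with
  | mem y hy => obtain ⟨j, hj, rfl⟩ := hy; exact hx j hj
  | zero => exact polar_zero_left (Q := Q) _
  | add y y' _ _ hy hy' => rw [polar_add_left, hy, hy', add_zero]
  | smul a y _ hy => rw [polar_smul_left', hy, mul_zero]

theorem qmap_espan (h : NFrame Q k e f) {u : V} (hu : u ∈ espan F k e) : Q u = 0 := by
  induction hu using Submodule.span_induction with
  | mem x hx => obtain ⟨j, hj, rfl⟩ := hx; exact h.qe j hj
  | zero => simp
  | add x y hxm hym hx hy =>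
    rw [map_add_polar, hx, hy, polar_espan hxm (espan_perp h hym)]; simp
  | smul a x _ hx => rw [qmap_smul, hx, mul_zero]

theorem inKer_perp {z : V} (hz : InKer Q k e f z) : EPerp Q k e z := fun i hi => (hz i hi).1

theorem espan_ker {u z : V} (hu : u ∈ espan F k e) (hz : InKer Q k e f z) : polar Q u z = 0 :=
  polar_espan hu (inKer_perp hz)

theorem mem_espan_of_perp (hQ : Nondeg Q) (h : NFrame Q k e f) {p : V}
    (hp : ∀ x, EPerp Q k e x → polar Q p x = 0) : p ∈ espan F k e := by
  set s := ∑ i ∈ Finset.range k, polar Q (f i) p • e i with hs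
  have hsm : s ∈ espan F k e := by
    refine Submodule.sum_mem _ fun i hi => Submodule.smul_mem _ _ (e_mem_espan ?_)
    exact Finset.mem_range.1 hi
  have hq : ∀ j, j < k → polar Q (p - s) (f j) = 0 := by
    intro j hj
    rw [polar_sub_left, hs, ← polarBilin_apply' (Q := Q) (∑ i ∈ _, _), map_sum, LinearMap.sum_apply,
      Finset.sum_eq_single j]
    · rw [polarBilin_apply', polar_smul_left', h.ef j hj j hj, if_pos rfl, polar_comm (⇑Q) p]; ring
    · intro i hi hne
      rw [polarBilin_apply', polar_smul_left', h.ef i (Finset.mem_range.1 hi) j hj, if_neg hne, mul_zero]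
    · intro hn; exact absurd (Finset.mem_range.2 hj) hn
  suffices p - s = 0 by rwa [sub_eq_zero.1 this]
  refine hQ _ fun x => ?_
  set x' := x - ∑ i ∈ Finset.range k, polar Q (e i) x • f i with hx'
  have hx'p : EPerp Q k e x' := by
    intro j hj
    rw [hx', polar_sub_right, ← polarBilin_apply' (Q := Q) _ (∑ i ∈ _, _), map_sum, Finset.sum_eq_single j]
    · rw [polarBilin_apply', polar_smul_right', h.ef j hj j hj, if_pos rfl]; ring
    · intro i hi hne
      rw [polarBilin_apply', polar_smul_right', h.ef j hj i (Finset.mem_range.1 hi), if_neg (Ne.symm hne), mul_zero]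
    · intro hn; exact absurd (Finset.mem_range.2 hj) hn
  have e1 : polar Q (p - s) x' = 0 := by
    rw [polar_sub_left, hp x' hx'p, polar_espan hsm hx'p, sub_zero]
  have e2 : polar Q (p - s) (∑ i ∈ Finset.range k, polar Q (e i) x • f i) = 0 := by
    rw [← polarBilin_apply', map_sum]
    exact Finset.sum_eq_zero fun i hi => by
      rw [polarBilin_apply', polar_smul_right', hq i (Finset.mem_range.1 hi), mul_zero]
  rw [show x = x' + ∑ i ∈ Finset.range k, polar Q (e i) x • f i by rw [hx']; abel, polar_add_right, e1, e2,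
    add_zero]

/-- Spreading a property along the `e`-part by means of the companion elements. -/
theorem spread (h : NFrame Q k e f) {t : F} (ht : ∀ S : AddSubgroup F, (1 : F) ∈ S → (∀ x ∈ S, t * x ∈ S) → S = ⊤)
    {G : Subgroup (O Q)}
    (hC : ∀ i (hi : i + 1 < k), cEl (h.quad (Nat.lt_of_succ_lt hi) hi (Nat.ne_of_lt (Nat.lt_succ_self i))) t ∈ G)
    (P : V → Prop) (hPadd : ∀ u v, u ∈ espan F k e → v ∈ espan F k e → P u → P v → P (u + v))
    (hPneg : ∀ u, u ∈ espan F k e → P u → P (-u))
    (hPconj : ∀ g ∈ G, (∀ u ∈ espan F k e, (g : V ≃ₗ[F] V) u ∈ espan F k e) →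
      (∀ z, InKer Q k e f z → (g : V ≃ₗ[F] V) z = z) → ∀ u ∈ espan F k e, P u → P ((g : V ≃ₗ[F] V) u))
    (j : ℕ) (hj : j ≤ 1) (hk : 2 ≤ k) (hPj : P (e j)) : ∀ u ∈ espan F k e, P u := by
  -- the action of the companion elements
  have hact : ∀ i (hi : i + 1 < k), ∀ g ∈ ({cEl (h.quad (Nat.lt_of_succ_lt hi) hi (Nat.ne_of_lt (Nat.lt_succ_self i))) t,
      (cEl (h.quad (Nat.lt_of_succ_lt hi) hi (Nat.ne_of_lt (Nat.lt_succ_self i))) t)⁻¹} : Set (O Q)),
      (∀ u ∈ espan F k e, (g : V ≃ₗ[F] V) u ∈ espan F k e) ∧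
      (∀ z, InKer Q k e f z → (g : V ≃ₗ[F] V) z = z) := by
    intro i hi g hg
    have hi0 : i < k := Nat.lt_of_succ_lt hi
    set hq := h.quad hi0 hi (Nat.ne_of_lt (Nat.lt_succ_self i))
    have hz : ∀ z, InKer Q k e f z → (cEl hq t : V ≃ₗ[F] V) z = z := fun z hz =>
      cEl_fix hq t (hz i hi0).1 (hz i hi0).2 (hz _ hi).1 (hz _ hi).2
    have hfix : ∀ l, l < k → l ≠ i → l ≠ i + 1 → (cEl hq t : V ≃ₗ[F] V) (e l) = e l := fun l hl n1 n2 =>
      cEl_fix hq t (h.ee i hi0 l hl) (by rw [h.fe i hi0 l hl, if_neg (Ne.symm n1)]) (h.ee _ hi l hl)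
        (by rw [h.fe _ hi l hl, if_neg (Ne.symm n2)])
    have hinv : ∀ v w, (cEl hq t : V ≃ₗ[F] V) v = w → (((cEl hq t)⁻¹ : O Q) : V ≃ₗ[F] V) w = v := by
      intro v w hvw
      rw [← hvw, ← mul_app, ← Subgroup.coe_mul, inv_mul_cancel]
      rfl
    rcases hg with rfl | rfl
    · refine ⟨fun u hu => ?_, hz⟩
      induction hu using Submodule.span_induction with
      | mem x hx =>
        obtain ⟨l, hl, rfl⟩ := hx
        by_cases n1 : l = i
        · subst n1; rw [cEl_e hq]; exact e_mem_espan hi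
        by_cases n2 : l = i + 1
        · subst n2; rw [cEl_e' hq]
          exact Submodule.add_mem _ (Submodule.neg_mem _ (e_mem_espan hi0))
            (Submodule.smul_mem _ _ (e_mem_espan hi))
        rw [hfix l hl n1 n2]; exact e_mem_espan hl
      | zero => rw [map_zero]; exact Submodule.zero_mem _
      | add x y _ _ hx hy => rw [map_add]; exact Submodule.add_mem _ hx hy
      | smul a x _ hx => rw [map_smul]; exact Submodule.smul_mem _ a hx
    · refine ⟨fun u hu => ?_, fun z hz' => hinv _ _ (hz z hz')⟩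
      induction hu using Submodule.span_induction with
      | mem x hx =>
        obtain ⟨l, hl, rfl⟩ := hx
        by_cases n1 : l = i
        · subst n1
          rw [hinv (t • e l - e (l + 1)) (e l) (by rw [map_sub, map_smul, cEl_e hq, cEl_e' hq]; abel)]
          exact Submodule.sub_mem _ (Submodule.smul_mem _ _ (e_mem_espan hi0)) (e_mem_espan hi)
        by_cases n2 : l = i + 1
        · subst n2; rw [hinv (e i) _ (cEl_e hq t)]; exact e_mem_espan hi0
        rw [hinv _ _ (hfix l hl n1 n2)]; exact e_mem_espan hl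
      | zero => rw [map_zero]; exact Submodule.zero_mem _
      | add x y _ _ hx hy => rw [map_add]; exact Submodule.add_mem _ hx hy
      | smul a x _ hx => rw [map_smul]; exact Submodule.smul_mem _ a hx
  have hsm : ∀ (a : F) (i : ℕ), i < k → a • e i ∈ espan F k e := fun a i hi =>
    Submodule.smul_mem _ _ (e_mem_espan hi)
  have fwd : ∀ i (hi : i + 1 < k) (a : F), P (a • e i) → P (a • e (i + 1)) := by
    intro i hi a ha
    obtain ⟨h1, h2⟩ := hact i hi _ (Or.inl rfl)
    have := hPconj _ (hC i hi) h1 h2 _ (hsm a i (Nat.lt_of_succ_lt hi)) ha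
    rwa [map_smul, cEl_e] at this
  have h01 : (0 : ℕ) + 1 < k := hk
  have back : ∀ a : F, P (a • e 1) → P (a • e 0) := by
    intro a ha
    obtain ⟨h1, h2⟩ := hact 0 h01 _ (Or.inr rfl)
    have := hPconj _ (G.inv_mem (hC 0 h01)) h1 h2 _ (hsm a 1 hk) ha
    rw [map_smul] at this
    set g := cEl (h.quad (Nat.lt_of_succ_lt h01) h01 (Nat.ne_of_lt (Nat.lt_succ_self 0))) t with hg
    have e1 : ((g⁻¹ : O Q) : V ≃ₗ[F] V) (e 1) = e 0 := by
      have e2 : (g : V ≃ₗ[F] V) (e 0) = e 1 := cEl_e _ t
      rw [← e2, ← mul_app, ← Subgroup.coe_mul, inv_mul_cancel]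
      rfl
    rwa [e1] at this
  have h1 : P (e 1) := by
    interval_cases j
    · simpa using fwd 0 h01 1 (by simpa using hPj)
    · exact hPj
  let S : AddSubgroup F :=
    { carrier := {a | P (a • e 1)}
      add_mem' := fun {a b} ha hb => by
        change P ((a + b) • e 1)
        rw [add_smul]
        exact hPadd _ _ (hsm a 1 hk) (hsm b 1 hk) ha hb
      zero_mem' := by
        change P ((0 : F) • e 1)
        have := hPadd _ _ (e_mem_espan hk) (Submodule.neg_mem _ (e_mem_espan hk)) h1 (hPneg _ (e_mem_espan hk) h1)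
        rwa [add_neg_cancel, ← zero_smul F (e 1)] at this
      neg_mem' := fun {a} ha => by
        change P ((-a) • e 1)
        rw [neg_smul]
        exact hPneg _ (hsm a 1 hk) ha }
  have hS : S = ⊤ := by
    refine ht S (by change P ((1 : F) • e 1); rwa [one_smul]) fun a ha => ?_
    obtain ⟨g1, g2⟩ := hact 0 h01 _ (Or.inl rfl)
    have hC1 := hPconj _ (hC 0 h01) g1 g2 _ (hsm a 1 hk) ha
    rw [map_smul, cEl_e'] at hC1
    have := hPadd _ _ (by
      refine Submodule.smul_mem _ _ (Submodule.add_mem _ (Submodule.neg_mem _ (e_mem_espan ?_)) (hsm t 1 hk))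
      omega) (hsm a 0 (by omega)) hC1 (back a ha)
    change P ((t * a) • e 1)
    convert this using 1
    rw [smul_add, smul_smul, mul_comm t a, smul_neg]; abel
  have h0' : ∀ a : F, P (a • e 0) := fun a => back a (by
    have : a ∈ S := hS ▸ AddSubgroup.mem_top a
    exact this)
  have hall : ∀ i, i < k → ∀ a : F, P (a • e i) := by
    intro i
    induction i with
    | zero => exact fun _ => h0'
    | succ i ih => exact fun hi a => fwd i hi a (ih (by omega) a)
  intro u hu
  have : ∀ a : F, P (a • u) := by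
    induction hu using Submodule.span_induction with
    | mem x hx => obtain ⟨l, hl, rfl⟩ := hx; exact hall l hl
    | zero => intro a; rw [smul_zero, ← zero_smul F (e 0)]; exact h0' 0
    | add x y hxm hym hx hy =>
      intro a; rw [smul_add]
      exact hPadd _ _ (Submodule.smul_mem _ a hxm) (Submodule.smul_mem _ a hym) (hx a) (hy a)
    | smul c x _ hx => intro a; rw [smul_smul]; exact hx _
  simpa using this 1

/-- An element of `G` acting on the orthogonal of the `e`-part as `x ↦ x + B(z,x) u`. -/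
def Good (G : Subgroup (O Q)) (k : ℕ) (e : ℕ → V) (u z : V) : Prop :=
  ∃ g ∈ G, ∀ x, EPerp Q k e x → (g : V ≃ₗ[F] V) x = x + polar Q z x • u

theorem Good.add {G : Subgroup (O Q)} (h : NFrame Q k e f) {u u' z : V} (hu' : u' ∈ espan F k e)
    (hz : InKer Q k e f z) (h1 : Good G k e u z) (h2 : Good G k e u' z) : Good G k e (u + u') z := by
  obtain ⟨g, hg, hgx⟩ := h1
  obtain ⟨g', hg', hgx'⟩ := h2
  refine ⟨g * g', G.mul_mem hg hg', fun x hx => ?_⟩
  have hp : EPerp Q k e (x + polar Q z x • u') := fun i hi => by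
    rw [polar_add_right, polar_smul_right', hx i hi, espan_perp h hu' i hi]; ring
  rw [Subgroup.coe_mul, mul_app, hgx' x hx, hgx _ hp, polar_add_right, polar_smul_right',
    polar_comm (⇑Q) z u', espan_ker hu' hz]
  module

theorem Good.neg {G : Subgroup (O Q)} (h : NFrame Q k e f) {u z : V} (hu : u ∈ espan F k e)
    (hz : InKer Q k e f z) (h1 : Good G k e u z) : Good G k e (-u) z := by
  obtain ⟨g, hg, hgx⟩ := h1
  refine ⟨g⁻¹, G.inv_mem hg, fun x hx => ?_⟩
  have hp : EPerp Q k e (x - polar Q z x • u) := fun i hi => by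
    rw [polar_sub_right, polar_smul_right', hx i hi, espan_perp h hu i hi]; ring
  have := hgx _ hp
  rw [polar_sub_right, polar_smul_right', polar_comm (⇑Q) z u, espan_ker hu hz, mul_zero, sub_zero,
    sub_add_cancel] at this
  conv_lhs => rw [← this]
  rw [← mul_app, ← Subgroup.coe_mul, inv_mul_cancel, smul_neg, ← sub_eq_add_neg]
  rfl

theorem Good.conj {G : Subgroup (O Q)} {u z : V} {g : O Q} (hg : g ∈ G)
    (hgE : ∀ v ∈ espan F k e, (g : V ≃ₗ[F] V) v ∈ espan F k e) (h1 : Good G k e u z) :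
    Good G k e ((g : V ≃ₗ[F] V) u) ((g : V ≃ₗ[F] V) z) := by
  obtain ⟨r, hr, hrx⟩ := h1
  refine ⟨g * r * g⁻¹, G.mul_mem (G.mul_mem hg hr) (G.inv_mem hg), fun x hx => ?_⟩
  have hgg : ∀ y, (g : V ≃ₗ[F] V) (((g⁻¹ : O Q) : V ≃ₗ[F] V) y) = y := fun y => by
    rw [← mul_app, ← Subgroup.coe_mul, mul_inv_cancel]; rfl
  have hp : EPerp Q k e (((g⁻¹ : O Q) : V ≃ₗ[F] V) x) := fun i hi => by
    rw [← O.polar_app g, hgg]
    exact polar_espan (hgE _ (e_mem_espan hi)) hx
  rw [Subgroup.coe_mul, mul_app, Subgroup.coe_mul, mul_app, hrx _ hp, map_add, map_smul, hgg,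
    ← O.polar_app g z, hgg]

/-- The commutator of two good elements is a long root element. -/
theorem long_mem {G : Subgroup (O Q)} (hQ : Nondeg Q) (h : NFrame Q k e f) {u u' z z' : V}
    (hu : u ∈ espan F k e) (hu' : u' ∈ espan F k e) (hz : InKer Q k e f z) (hz' : InKer Q k e f z')
    (h1 : Good G k e u z) (h2 : Good G k e u' z') :
    sie u ((-polar Q z z') • u') (qmap_espan h hu)
      (by rw [polar_smul_right', polar_espan hu (espan_perp h hu'), mul_zero]) ∈ G := by
  obtain ⟨g, hg, hgx⟩ := h1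
  obtain ⟨g', hg', hgx'⟩ := h2
  have gen : ∀ (g : O Q) (u z : V), u ∈ espan F k e → InKer Q k e f z →
      (∀ x, EPerp Q k e x → (g : V ≃ₗ[F] V) x = x + polar Q z x • u) →
      ∀ y, (g : V ≃ₗ[F] V) y - y + polar Q u y • z ∈ espan F k e := by
    intro g u z hu hz hgx y
    refine mem_espan_of_perp hQ h fun x hx => ?_
    have hp : EPerp Q k e (x - polar Q z x • u) := fun i hi => by
      rw [polar_sub_right, polar_smul_right', hx i hi, espan_perp h hu i hi]; ring
    have e1 : (g : V ≃ₗ[F] V) (x - polar Q z x • u) = x := by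
      rw [hgx _ hp, polar_sub_right, polar_smul_right', polar_comm (⇑Q) z u, espan_ker hu hz]
      module
    rw [polar_add_left, polar_sub_left, polar_smul_left']
    conv_lhs =>
      arg 1; arg 1; rw [← e1]
    rw [O.polar_app, polar_sub_right, polar_smul_right', polar_comm (⇑Q) y u]
    ring
  have fixE : ∀ (g : O Q) (u z : V), InKer Q k e f z →
      (∀ x, EPerp Q k e x → (g : V ≃ₗ[F] V) x = x + polar Q z x • u) →
      ∀ v ∈ espan F k e, (g : V ≃ₗ[F] V) v = v := by
    intro g u z hz hgx v hv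
    rw [hgx v (espan_perp h hv), polar_comm (⇑Q) z v, espan_ker hv hz, zero_smul, add_zero]
  have expand : ∀ (g g' : O Q) (u z u' z' : V), u ∈ espan F k e → InKer Q k e f z → u' ∈ espan F k e →
      InKer Q k e f z' →
      (∀ x, EPerp Q k e x → (g : V ≃ₗ[F] V) x = x + polar Q z x • u) →
      (∀ x, EPerp Q k e x → (g' : V ≃ₗ[F] V) x = x + polar Q z' x • u') →
      ∀ y, (g : V ≃ₗ[F] V) ((g' : V ≃ₗ[F] V) y) = (g : V ≃ₗ[F] V) y + (g' : V ≃ₗ[F] V) y - y
        - (polar Q u' y * polar Q z z') • u := by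
    intro g g' u z u' z' hu hz hu' hz' hgx hgx' y
    have hp := gen g' u' z' hu' hz' hgx' y
    have := fixE g u z hz hgx _ hp
    rw [map_add, map_sub, map_smul, hgx z' (inKer_perp hz')] at this
    linear_combination (norm := module) this
  have key : g * g' = sie u ((-polar Q z z') • u') (qmap_espan h hu)
      (by rw [polar_smul_right', polar_espan hu (espan_perp h hu'), mul_zero]) * (g' * g) := by
    refine O.ext_app fun y => ?_
    have hB : ∀ v ∈ espan F k e, polar Q v ((g' : V ≃ₗ[F] V) ((g : V ≃ₗ[F] V) y)) = polar Q v y := by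
      intro v hv
      conv_lhs => rw [← fixE g' u' z' hz' hgx' v hv]
      rw [O.polar_app]
      conv_lhs => rw [← fixE g u z hz hgx v hv]
      rw [O.polar_app]
    simp only [Subgroup.coe_mul, mul_app]
    rw [sie_app, polar_smul_left', hB u hu, hB u' hu', qmap_smul, qmap_espan h hu',
      expand g g' u z u' z' hu hz hu' hz' hgx hgx' y,
      expand g' g u' z' u z hu' hz' hu hz hgx' hgx y, polar_comm (⇑Q) z' z]
    module
  have : sie u ((-polar Q z z') • u') (qmap_espan h hu)
      (by rw [polar_smul_right', polar_espan hu (espan_perp h hu'), mul_zero]) =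
      g * g' * (g' * g)⁻¹ := by rw [key, mul_inv_cancel_right]
  rw [this]
  exact G.mul_mem (G.mul_mem hg hg') (G.inv_mem (G.mul_mem hg' hg))

/-- The product of two short root elements. -/
theorem short_mul {u u' z : V} (hu : Q u = 0) (hu' : Q u' = 0) (huu : polar Q u u' = 0)
    (huz : polar Q u z = 0) (hu'z : polar Q u' z = 0) :
    sie u z hu huz * sie u' z hu' hu'z * sie u (Q z • u') hu (by rw [polar_smul_right', huu, mul_zero]) =
      sie (u + u') z (by rw [map_add_polar, hu, hu', huu]; ring)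
        (by rw [polar_add_left, huz, hu'z, add_zero]) := by
  refine O.ext_app fun x => ?_
  simp only [Subgroup.coe_mul, mul_app, sie_app, polar_add_left, polar_add_right, polar_sub_right,
    polar_smul_right', polar_smul_left', qmap_smul, polar_self', hu, hu', huu, huz, hu'z,
    polar_comm (⇑Q) u' u, polar_comm (⇑Q) z u, polar_comm (⇑Q) z u']
  match_scalars <;> ring

/-- The main step: a subgroup with the cycle, a companion element and one short root element is everything. -/
theorem sieGroup_le_of_cycle (hQ : Nondeg Q) (h : NFrame Q k e f) (hk : 3 ≤ k) {t : F}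
    (ht : ∀ S : AddSubgroup F, (1 : F) ∈ S → (∀ x ∈ S, t * x ∈ S) → S = ⊤) {z z1 : V}
    (hz : InKer Q k e f z) (hz1 : InKer Q k e f z1)
    (hspan : ∀ x, InKer Q k e f x → ∃ a b : F, x = a • z1 + b • refl' Q z z1)
    (hne : polar Q z1 z1 ≠ 0 ∨ polar Q z1 (refl' Q z z1) ≠ 0)
    {w : O Q} (hw1 : ∀ i, i + 1 < k → (w : V ≃ₗ[F] V) (e i) = e (i + 1) ∧ (w : V ≃ₗ[F] V) (f i) = f (i + 1))
    (hw2 : ∃ c : F, c ≠ 0 ∧ (w : V ≃ₗ[F] V) (e (k - 1)) = c • f 0)
    (hw3 : ∃ c : F, c ≠ 0 ∧ (w : V ≃ₗ[F] V) (f (k - 1)) = c • e 0)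
    (hw4 : ∀ x, InKer Q k e f x → (w : V ≃ₗ[F] V) x = refl' Q z x)
    {G : Subgroup (O Q)} (hwG : w ∈ G)
    (hCG : cEl (h.quad (show 1 < k by omega) (show 2 < k by omega) (by decide)) t ∈ G)
    (hρG : sie (e 0) z1 (h.qe 0 (by omega)) (hz1 0 (by omega)).1 ∈ G) : sieGroup Q ≤ G := by
  obtain ⟨c, hc, hwe⟩ := hw2
  obtain ⟨c', hc', hwf⟩ := hw3
  have h0 : (0 : ℕ) < k := by omega
  have hwpow : ∀ i, i < k → ((w : V ≃ₗ[F] V) ^ i) (e 0) = e i ∧ ((w : V ≃ₗ[F] V) ^ i) (f 0) = f i := by
    intro i hi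
    induction i with
    | zero => exact ⟨rfl, rfl⟩
    | succ i ih =>
      obtain ⟨a, b⟩ := ih (by omega)
      simp only [pow_succ', mul_app, a, b]
      exact hw1 i hi
  have hwpow' : ∀ d i, i + d < k → ((w : V ≃ₗ[F] V) ^ d) (e i) = e (i + d) ∧ ((w : V ≃ₗ[F] V) ^ d) (f i) = f (i + d) := by
    intro d
    induction d with
    | zero => exact fun i _ => ⟨rfl, rfl⟩
    | succ d ih =>
      intro i hi
      obtain ⟨a, b⟩ := ih i (by omega)
      simp only [pow_succ', mul_app, a, b]
      exact hw1 (i + d) (by omega)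
  have hwk : ∀ i, i < k → ((w : V ≃ₗ[F] V) ^ k) (e i) = c • f i ∧ ((w : V ≃ₗ[F] V) ^ k) (f i) = c' • e i := by
    intro i hi
    obtain ⟨a, b⟩ := hwpow' (k - 1 - i) i (by omega)
    obtain ⟨a', b'⟩ := hwpow i hi
    rw [show i + (k - 1 - i) = k - 1 by omega] at a b
    rw [show (w : V ≃ₗ[F] V) ^ k = (w : V ≃ₗ[F] V) ^ i * ((w : V ≃ₗ[F] V) * (w : V ≃ₗ[F] V) ^ (k - 1 - i)) by
      rw [← pow_succ', ← pow_add]; congr 1; omega]
    constructor
    · rw [mul_app, mul_app, a, hwe, map_smul, b']
    · rw [mul_app, mul_app, b, hwf, map_smul, a']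
  -- the companion elements of all consecutive pairs
  have hC0 : cEl (h.quad h0 (show 0 + 1 < k by omega) (by decide)) t ∈ G := by
    have := cEl_conj (h.quad h0 (show 0 + 1 < k by omega) (by decide))
      (h.quad (show 1 < k by omega) (show 2 < k by omega) (by decide)) w (hw1 0 (by omega)).1
      (hw1 0 (by omega)).2 (hw1 1 (by omega)).1 (hw1 1 (by omega)).2 t
    have := this ▸ hCG
    simpa [mul_assoc] using G.mul_mem (G.mul_mem (G.inv_mem hwG) this) hwG
  have hC : ∀ i (hi : i + 1 < k),
      cEl (h.quad (Nat.lt_of_succ_lt hi) hi (Nat.ne_of_lt (Nat.lt_succ_self i))) t ∈ G := by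
    intro i
    induction i with
    | zero => exact fun _ => hC0
    | succ i ih =>
      intro hi
      have := cEl_conj (h.quad (show i < k by omega) (show i + 1 < k by omega) (Nat.ne_of_lt (Nat.lt_succ_self i)))
        (h.quad (Nat.lt_of_succ_lt hi) hi (Nat.ne_of_lt (Nat.lt_succ_self _))) w (hw1 i (by omega)).1
        (hw1 i (by omega)).2 (hw1 (i + 1) (by omega)).1 (hw1 (i + 1) (by omega)).2 t
      rw [← this]
      exact G.mul_mem (G.mul_mem hwG (ih (by omega))) (G.inv_mem hwG)
  set z1' := refl' Q z z1 with hz1'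
  have hz1'm : InKer Q k e f z1' := refl'_inKer hz hz1
  have h1k : 1 < k := by omega
  have hρ' : sie (e 1) z1' (h.qe 1 h1k) (hz1'm 1 h1k).1 ∈ G := by
    have := G.mul_mem (G.mul_mem hwG hρG) (G.inv_mem hwG)
    rw [sie_conj] at this
    rwa [sie_congr _ _ (h.qe 1 h1k) (hz1'm 1 h1k).1 (hw1 0 (by omega)).1 (hw4 z1 hz1)] at this
  -- good elements
  have good : ∀ (j : ℕ) (y : V) (hy : InKer Q k e f y) (hj : j ≤ 1),
      sie (e j) y (h.qe j (by omega)) (hy j (by omega)).1 ∈ G → ∀ u ∈ espan F k e, Good G k e u y := by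
    intro j y hy hj hmem
    refine spread h ht hC (fun u => Good G k e u y) (fun u v _ hv h1 h2 => h1.add h hv hy h2)
      (fun u hu h1 => h1.neg h hu hy) (fun g hg hgE hgz u _ h1 => ?_) j hj (by omega) ⟨_, hmem, fun x hx => ?_⟩
    · have := h1.conj hg hgE
      rwa [hgz y hy] at this
    · rw [sie_app, hx j (by omega)]
      simp
  have good1 := good 0 z1 hz1 (by omega) hρG
  have good2 := good 1 z1' hz1'm le_rfl hρ'
  have long : ∀ u v (hu : u ∈ espan F k e) (hv : v ∈ espan F k e),
      sie u v (qmap_espan h hu) (polar_espan hu (espan_perp h hv)) ∈ G := by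
    intro u v hu hv
    rcases hne with hne | hne
    · have := long_mem hQ h hu (Submodule.smul_mem _ ((-polar Q z1 z1)⁻¹) hv) hz1 hz1 (good1 u hu)
        (good1 _ (Submodule.smul_mem _ _ hv))
      rwa [sie_congr _ _ (qmap_espan h hu) (polar_espan hu (espan_perp h hv)) rfl
        (smul_inv_smul₀ (neg_ne_zero.2 hne) v)] at this
    · have := long_mem hQ h hu (Submodule.smul_mem _ ((-polar Q z1 z1')⁻¹) hv) hz1 hz1'm (good1 u hu)
        (good2 _ (Submodule.smul_mem _ _ hv))
      rwa [sie_congr _ _ (qmap_espan h hu) (polar_espan hu (espan_perp h hv)) rfl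
        (smul_inv_smul₀ (neg_ne_zero.2 hne) v)] at this
  -- exact short root elements
  have exact' : ∀ (j : ℕ) (y : V) (hy : InKer Q k e f y) (hj : j ≤ 1),
      sie (e j) y (h.qe j (by omega)) (hy j (by omega)).1 ∈ G →
      ∀ u (hu : u ∈ espan F k e), sie u y (qmap_espan h hu) (espan_ker hu hy) ∈ G := by
    intro j y hy hj hmem
    suffices ∀ u ∈ espan F k e, ∀ hu : u ∈ espan F k e, sie u y (qmap_espan h hu) (espan_ker hu hy) ∈ G from
      fun u hu => this u hu hu
    refine spread h ht hC (fun u => ∀ hu : u ∈ espan F k e, sie u y (qmap_espan h hu) (espan_ker hu hy) ∈ G)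
      (fun u v hu hv h1 h2 _ => ?_) (fun u hu h1 _ => ?_) (fun g hg hgE hgz u hu h1 _ => ?_) j hj (by omega)
      (fun _ => hmem)
    · rw [← short_mul (qmap_espan h hu) (qmap_espan h hv) (polar_espan hu (espan_perp h hv)) (espan_ker hu hy)
        (espan_ker hv hy)]
      exact G.mul_mem (G.mul_mem (h1 hu) (h2 hv)) (long u _ hu (Submodule.smul_mem _ _ hv))
    · have hm : -u ∈ espan F k e := Submodule.neg_mem _ hu
      have := short_mul (qmap_espan h hu) (qmap_espan h hm) (polar_espan hu (espan_perp h hm))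
        (espan_ker hu hy) (espan_ker hm hy)
      rw [show sie (u + -u) y _ _ = 1 from O.ext_app fun x => by
        rw [sie_app, add_neg_cancel, polar_zero_left]; simp] at this
      have h3 := long u (Q y • -u) hu (Submodule.smul_mem _ _ hm)
      rw [mul_assoc] at this
      have h4 : sie (-u) y (qmap_espan h hm) (espan_ker hm hy) =
          (sie u y (qmap_espan h hu) (espan_ker hu hy))⁻¹ * (sie u (Q y • -u) (qmap_espan h hu)
            (polar_espan hu (espan_perp h (Submodule.smul_mem _ _ hm))))⁻¹ :=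
        eq_mul_inv_of_mul_eq (inv_eq_of_mul_eq_one_right this).symm
      rw [h4]
      exact G.mul_mem (G.inv_mem (h1 hu)) (G.inv_mem h3)
    · have := G.mul_mem (G.mul_mem hg (h1 hu)) (G.inv_mem hg)
      rw [sie_conj] at this
      rwa [sie_congr _ _ _ _ rfl (hgz y hy)] at this
  have shortAll : ∀ u (hu : u ∈ espan F k e) (y : V) (hy : InKer Q k e f y),
      sie u y (qmap_espan h hu) (espan_ker hu hy) ∈ G := by
    intro u hu y hy
    obtain ⟨a, b, rfl⟩ := hspan y hy
    have ha := exact' 0 z1 hz1 (by omega) hρG (a • u) (Submodule.smul_mem _ a hu)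
    have hb := exact' 1 z1' hz1'm le_rfl hρ' (b • u) (Submodule.smul_mem _ b hu)
    rw [sie_smul (qmap_espan h hu) (espan_ker hu hz1) a] at ha
    rw [sie_smul (qmap_espan h hu) (espan_ker hu hz1'm) b] at hb
    have := G.mul_mem ha hb
    rwa [sie_mul] at this
  -- long root elements between the two halves
  have he0 := e_mem_espan (F := F) (e := e) h0
  have hef : ∀ i, i < k → i ≠ 0 → ∀ a : F, ∀ hp : polar Q (e 0) (a • f i) = 0,
      sie (e 0) (a • f i) (h.qe 0 h0) hp ∈ G := by
    intro i hi hi0 a hp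
    obtain ⟨l, rfl⟩ := Nat.exists_eq_succ_of_ne_zero hi0
    have hl : l < k := by omega
    -- conjugate a long root element by the cycle
    have h1 : ∀ b : F, ∀ hp' : polar Q (f 0) (b • e (l + 1)) = 0,
        sie (f 0) (b • e (l + 1)) (h.qf 0 h0) hp' ∈ G := by
      intro b hp'
      have hL := long (e l) ((-(b / c)) • e (k - 1)) (e_mem_espan hl)
        (Submodule.smul_mem _ _ (e_mem_espan (by omega)))
      have := G.mul_mem (G.mul_mem hwG hL) (G.inv_mem hwG)
      rw [sie_conj] at this
      have h2 : polar Q (e (l + 1)) ((-b) • f 0) = 0 := by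
        rw [polar_smul_right', h.ef _ hi 0 h0, if_neg (Nat.succ_ne_zero l), mul_zero]
      rw [sie_congr _ _ (h.qe _ hi) h2 (hw1 l hi).1 (by
        rw [map_smul, hwe, smul_smul, neg_mul, div_mul_cancel₀ _ hc])] at this
      rw [sie_swap (h.qe _ hi) h2 (qsmul_zero (h.qf 0 h0) _),
        sie_smul (h.qf 0 h0) (by rw [polar_neg_right, h.fe 0 h0 _ hi, if_neg (Ne.symm (Nat.succ_ne_zero l)), neg_zero])] at this
      rwa [sie_congr _ _ (h.qf 0 h0) hp' rfl (by rw [smul_neg, neg_smul, neg_neg])] at this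
    have hp' : polar Q (f 0) ((a / (c' * c)) • e (l + 1)) = 0 := by
      rw [polar_smul_right', h.fe 0 h0 _ hi, if_neg (Ne.symm (Nat.succ_ne_zero l)), mul_zero]
    have := G.mul_mem (G.mul_mem (G.pow_mem hwG k) (h1 _ hp')) (G.inv_mem (G.pow_mem hwG k))
    rw [sie_conj] at this
    have e1 : ((w ^ k : O Q) : V ≃ₗ[F] V) (f 0) = c' • e 0 := by
      rw [SubgroupClass.coe_pow]; exact (hwk 0 h0).2
    have e2 : ((w ^ k : O Q) : V ≃ₗ[F] V) ((a / (c' * c)) • e (l + 1)) = (a / c') • f (l + 1) := by
      rw [SubgroupClass.coe_pow, map_smul, (hwk _ hi).1, smul_smul]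
      congr 1
      field_simp
    rw [sie_congr _ _ (qsmul_zero (h.qe 0 h0) c') (by
      rw [polar_smul_left', polar_smul_right', h.ef 0 h0 _ hi, if_neg (Ne.symm (Nat.succ_ne_zero l))]; ring) e1 e2,
      sie_smul (h.qe 0 h0) (by rw [polar_smul_right', h.ef 0 h0 _ hi, if_neg (Ne.symm (Nat.succ_ne_zero l))]; ring)] at this
    rwa [sie_congr _ _ (h.qe 0 h0) hp rfl (by rw [smul_smul, mul_div_cancel₀ _ hc'])] at this
  -- the full root group of `e 0`
  let W : Submodule F V :=
    { carrier := {v | ∃ hv : polar Q (e 0) v = 0, ∀ a : F, sie (e 0) (a • v) (h.qe 0 h0)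
        (by rw [polar_smul_right', hv, mul_zero]) ∈ G}
      add_mem' := fun {u v} => by
        rintro ⟨hu, h1⟩ ⟨hv, h2⟩
        refine ⟨by rw [polar_add_right, hu, hv, add_zero], fun a => ?_⟩
        have := G.mul_mem (h1 a) (h2 a)
        rw [sie_mul] at this
        rwa [sie_congr _ _ _ _ rfl (smul_add a u v).symm] at this
      zero_mem' := by
        refine ⟨polar_zero_right (Q := Q) _, fun a => ?_⟩
        have := long (e 0) 0 he0 (Submodule.zero_mem _)
        rwa [sie_congr _ _ _ _ rfl (smul_zero a).symm] at this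
      smul_mem' := fun b {v} => by
        rintro ⟨hv, h1⟩
        refine ⟨by rw [polar_smul_right', hv, mul_zero], fun a => ?_⟩
        have := h1 (a * b)
        rwa [sie_congr _ _ _ _ rfl (mul_smul a b v)] at this }
  have hE : ∀ (v : V) (hv : polar Q (e 0) v = 0), sie (e 0) v (h.qe 0 h0) hv ∈ G := by
    intro v hv
    set y := v - ∑ i ∈ Finset.range k, (polar Q (f i) v • e i + polar Q (e i) v • f i) with hy
    have hye : InKer Q k e f y := by
      intro j hj
      constructor
      · rw [hy, polar_sub_right, ← polarBilin_apply' (Q := Q) _ (∑ i ∈ _, _), map_sum, Finset.sum_eq_single j]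
        · rw [polarBilin_apply', polar_add_right, polar_smul_right', polar_smul_right', h.ee j hj j hj,
            h.ef j hj j hj, if_pos rfl]; ring
        · intro i hi hne
          rw [polarBilin_apply', polar_add_right, polar_smul_right', polar_smul_right',
            h.ee j hj i (Finset.mem_range.1 hi), h.ef j hj i (Finset.mem_range.1 hi), if_neg (Ne.symm hne)]; ring
        · intro hn; exact absurd (Finset.mem_range.2 hj) hn
      · rw [hy, polar_sub_right, ← polarBilin_apply' (Q := Q) _ (∑ i ∈ _, _), map_sum, Finset.sum_eq_single j]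
        · rw [polarBilin_apply', polar_add_right, polar_smul_right', polar_smul_right', h.ff j hj j hj,
            h.fe j hj j hj, if_pos rfl]; ring
        · intro i hi hne
          rw [polarBilin_apply', polar_add_right, polar_smul_right', polar_smul_right',
            h.ff j hj i (Finset.mem_range.1 hi), h.fe j hj i (Finset.mem_range.1 hi), if_neg (Ne.symm hne)]; ring
        · intro hn; exact absurd (Finset.mem_range.2 hj) hn
    have hvW : v ∈ W := by
      rw [show v = y + ∑ i ∈ Finset.range k, (polar Q (f i) v • e i + polar Q (e i) v • f i) by rw [hy]; abel]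
      refine W.add_mem ⟨(hye 0 h0).1, fun a => ?_⟩ (W.sum_mem fun i hi => ?_)
      · refine shortAll (e 0) he0 (a • y) fun i hi => ?_
        rw [polar_smul_right', polar_smul_right', (hye i hi).1, (hye i hi).2]
        simp
      have hi' := Finset.mem_range.1 hi
      refine W.add_mem (W.smul_mem _ ⟨h.ee 0 h0 i hi', fun a =>
        long (e 0) (a • e i) he0 (Submodule.smul_mem _ _ (e_mem_espan hi'))⟩) ?_
      by_cases hi0 : i = 0
      · subst hi0
        rw [hv, zero_smul]
        exact W.zero_mem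
      · exact W.smul_mem _ ⟨by rw [h.ef 0 h0 i hi', if_neg (Ne.symm hi0)], fun a => hef i hi' hi0 a _⟩
    obtain ⟨_, hmem⟩ := hvW
    have := hmem 1
    rwa [sie_congr _ _ _ hv rfl (one_smul F v)] at this
  have hf0 : polar Q (e 0) (f 0) = 1 := by rw [h.ef 0 h0 0 h0, if_pos rfl]
  refine sieGroup_le_of_opposite hQ (h.qe 0 h0) (h.qf 0 h0) hf0 hE fun v hv => ?_
  -- transport by the power of the cycle
  set g := w ^ k with hg
  have hge : (g : V ≃ₗ[F] V) (e 0) = c • f 0 := by rw [hg, SubgroupClass.coe_pow]; exact (hwk 0 h0).1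
  set v' := ((g⁻¹ : O Q) : V ≃ₗ[F] V) (c⁻¹ • v) with hv'
  have hgv : (g : V ≃ₗ[F] V) v' = c⁻¹ • v := by
    rw [hv', ← mul_app, ← Subgroup.coe_mul, mul_inv_cancel]; rfl
  have hev' : polar Q (e 0) v' = 0 := by
    rw [← O.polar_app g, hge, hgv, polar_smul_left', polar_smul_right', hv]; ring
  have := G.mul_mem (G.mul_mem (G.pow_mem hwG k) (hE v' hev')) (G.inv_mem (G.pow_mem hwG k))
  rw [← hg, sie_conj] at this
  rw [sie_congr _ _ (qsmul_zero (h.qf 0 h0) c) (by
      rw [polar_smul_left', polar_smul_right', hv]; ring) hge hgv,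
    sie_smul (h.qf 0 h0) (by rw [polar_smul_right', hv, mul_zero])] at this
  rwa [sie_congr _ _ (h.qf 0 h0) hv rfl (smul_inv_smul₀ hc v)] at this

end Cfsg.Agent.H30.OrthTwoGen
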