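import Cfsg.Agent.H30.OrthTwoGen.Gen
import Cfsg.Agent.Orthogonal.POmega

/-!
Two generators of the Eichler group in the presence of three hyperbolic pairs, and the passage to the
projective group.
-/

set_option autoImplicit false

namespace Cfsg.Agent.H30.OrthTwoGen

open QuadraticMap Module Cfsg.Agent.Orthogonal

section Abstract

variable {F V : Type*} [Field F] [Fintype F] [AddCommGroup V] [Module F V]
variable {Q : QuadraticForm F V}

theorem sie_pow_card {u w : V} (hu : Q u = 0) (hw : polar Q u w = 0) :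
    sie u w hu hw ^ Fintype.card F = 1 := by
  rw [sie_pow]
  refine O.ext_app fun x => ?_
  rw [sie_app, FiniteField.cast_card_eq_zero]
  simp

theorem two_gen_of_three (hQ : Nondeg Q) {k : ℕ} {e f : ℕ → V} (h : NFrame Q k e f) (hk : 3 ≤ k) {z z1 : V}
    (hz : InKer Q k e f z) (hz1 : InKer Q k e f z1) (hQz : Q z ≠ 0) (hzz : polar Q z z1 ≠ 0)
    (hspan : ∀ x, InKer Q k e f x → ∃ a b : F, x = a • z + b • z1) :
    ∃ a ∈ sieGroup Q, ∃ b ∈ sieGroup Q, Subgroup.closure {a, b} = sieGroup Q := by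
  obtain ⟨t, ht4, ht⟩ := exists_param F
  obtain ⟨w, hw, h1, -, h3, h4, h5⟩ := exists_cycle h hz hQz (k - 1) (by omega)
  have h1k : 1 < k := by omega
  have h2k : 2 < k := by omega
  have hq := h.quad h1k h2k (by decide)
  set C := cEl hq t with hCdef
  have hρd : polar Q (e 0) z1 = 0 := (hz1 0 (by omega)).1
  set ρ := sie (e 0) z1 (h.qe 0 (by omega)) hρd with hρdef
  have hcomm : Commute C ρ := by
    have : C * ρ * C⁻¹ = ρ := by
      rw [hρdef, sie_conj]
      refine sie_congr _ _ _ _ ?_ (cEl_fix hq t (hz1 1 h1k).1 (hz1 1 h1k).2 (hz1 2 h2k).1 (hz1 2 h2k).2)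
      exact cEl_fix hq t (h.ee 1 h1k 0 (by omega)) (by rw [h.fe 1 h1k 0 (by omega), if_neg (by decide)])
        (h.ee 2 h2k 0 (by omega)) (by rw [h.fe 2 h2k 0 (by omega), if_neg (by decide)])
    exact mul_inv_eq_iff_eq_mul.1 this
  refine ⟨C * ρ, mul_mem (cEl_mem hq t) (sie_mem _ _), w, hw, le_antisymm ?_ ?_⟩
  · rw [Subgroup.closure_le]
    rintro x (rfl | rfl)
    · exact mul_mem (cEl_mem hq t) (sie_mem _ _)
    · exact hw
  obtain ⟨hCG, hρG⟩ := mem_of_coprime_mul (G := Subgroup.closure {C * ρ, w}) hcomm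
    (q := Fintype.card F) Fintype.card_pos (cEl_pow_eq_one hq ht4 hq.split) (sie_pow_card _ _)
    (Subgroup.subset_closure (Set.mem_insert _ _))
  refine sieGroup_le_of_cycle hQ h hk ht hz hz1 (fun x hx => ?_) ?_ (fun i hi => h1 i (by omega)) h3 h4 h5
    (Subgroup.subset_closure (Set.mem_insert_of_mem _ rfl)) hCG hρG
  · obtain ⟨a, b, rfl⟩ := hspan x hx
    set m := (Q z)⁻¹ * polar Q z z1 with hm
    have hm0 : m ≠ 0 := mul_ne_zero (inv_ne_zero hQz) hzz
    refine ⟨a / m + b, -(a / m), ?_⟩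
    rw [refl', ← hm, smul_sub, smul_smul, neg_mul, div_mul_cancel₀ _ hm0]
    module
  · by_cases hn : polar Q z1 z1 = 0
    · right
      rw [refl', polar_sub_right, polar_smul_right', hn, polar_comm (⇑Q) z1 z, zero_sub, neg_ne_zero]
      exact mul_ne_zero (mul_ne_zero (inv_ne_zero hQz) hzz) hzz
    · exact Or.inl hn

end Abstract

variable {F : Type*} [Field F] [Finite F] {ι : Type} [Fintype ι] [DecidableEq ι]
variable {Q : QuadraticForm F (ι → F)}

/-- Two generators of the Eichler group give two generators of the projective group. -/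
theorem exists_two_gen_POmega (hQ : Nondeg Q) (hn : 5 ≤ finrank F (ι → F))
    (h : ∃ a ∈ sieGroup Q, ∃ b ∈ sieGroup Q, Subgroup.closure {a, b} = sieGroup Q) :
    ∃ a b : Cfsg.POmega F (⇑Q), Subgroup.closure ({a, b} : Set (Cfsg.POmega F (⇑Q))) = ⊤ := by
  obtain ⟨a, ha, b, hb, hab⟩ := h
  rw [sieGroup_eq_commutator hQ hn] at ha hb hab
  set φ := (QuotientGroup.mk' (Subgroup.center (Cfsg.Omega F (⇑Q)))).comp
    (omegaEquiv Q).symm.toMonoidHom with hφ
  have hsurj : Function.Surjective φ :=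
    (QuotientGroup.mk'_surjective _).comp (omegaEquiv Q).symm.surjective
  have hgen : Subgroup.closure ({⟨a, ha⟩, ⟨b, hb⟩} : Set (commutator (O Q))) = ⊤ := by
    apply Subgroup.map_injective (f := (commutator (O Q)).subtype) Subtype.val_injective
    rw [MonoidHom.map_closure, Set.image_pair, ← MonoidHom.range_eq_map, Subgroup.range_subtype]
    exact hab
  refine ⟨φ ⟨a, ha⟩, φ ⟨b, hb⟩, ?_⟩
  rw [← Set.image_pair, ← MonoidHom.map_closure, hgen]
  exact Subgroup.map_top_of_surjective φ hsurj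

end Cfsg.Agent.H30.OrthTwoGen
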