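import Cfsg.Agent.H30.OrthTwoGen.GenThree
import Cfsg.Agent.Orthogonal.StdForms

/-!
Two generators of the Eichler group of a five-dimensional space in odd characteristic, and of the
odd-dimensional projective orthogonal groups.
-/

set_option autoImplicit false

namespace Cfsg.Agent.H30.OrthTwoGen

open QuadraticMap Module Cfsg.Agent.Orthogonal

section Abstract

variable {F V : Type*} [Field F] [AddCommGroup V] [Module F V]
variable {Q : QuadraticForm F V}

theorem NFrame.swap {k : ℕ} {e f : ℕ → V} (h : NFrame Q k e f) : NFrame Q k f e :=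
  ⟨h.qf, h.qe, fun i hi j hj => h.fe i hi j hj, h.ff, h.ee⟩

theorem InKer.swap {k : ℕ} {e f : ℕ → V} {z : V} (h : InKer Q k e f z) : InKer Q k f e z :=
  fun i hi => ⟨(h i hi).2, (h i hi).1⟩

/-- The vectors all of whose multiples give elements of `G` along the axis `u`. -/
noncomputable def rootSub (G : Subgroup (O Q)) (u : V) (hu : Q u = 0) : Submodule F V where
  carrier := {v | ∃ hv : polar Q u v = 0, ∀ a : F, sie u (a • v) hu
    (by rw [polar_smul_right', hv, mul_zero]) ∈ G}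
  add_mem' := fun {v w} => by
    rintro ⟨hv, h1⟩ ⟨hw, h2⟩
    refine ⟨by rw [polar_add_right, hv, hw, add_zero], fun a => ?_⟩
    have := G.mul_mem (h1 a) (h2 a)
    rw [sie_mul] at this
    rwa [sie_congr _ _ _ _ rfl (smul_add a v w).symm] at this
  zero_mem' := by
    refine ⟨polar_zero_right (Q := Q) _, fun a => ?_⟩
    have : sie u (a • (0 : V)) hu (by rw [smul_zero]; exact polar_zero_right (Q := Q) _) = 1 :=
      O.ext_app fun x => by rw [sie_app]; simp
    rw [this]; exact G.one_mem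
  smul_mem' := fun b {v} => by
    rintro ⟨hv, h1⟩
    refine ⟨by rw [polar_smul_right', hv, mul_zero], fun a => ?_⟩
    have := h1 (a * b)
    rwa [sie_congr _ _ _ _ rfl (mul_smul a b v)] at this

theorem sie_mem_of_rootSub {G : Subgroup (O Q)} {u v : V} {hu : Q u = 0} (h : v ∈ rootSub G u hu)
    (hv : polar Q u v = 0) : sie u v hu hv ∈ G := by
  obtain ⟨_, h1⟩ := h
  have := h1 1
  rwa [sie_congr _ _ hu hv rfl (one_smul F v)] at this

theorem rootSub_self (G : Subgroup (O Q)) {u : V} (hu : Q u = 0) : u ∈ rootSub G u hu := by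
  refine ⟨by rw [polar_self', hu, mul_zero], fun a => ?_⟩
  have : sie u (a • u) hu (by rw [polar_smul_right', polar_self', hu]; ring) = 1 :=
    O.ext_app fun x => by simp [sie_app, qmap_smul, hu, polar_smul_left', smul_smul, mul_comm]
  rw [this]; exact G.one_mem

end Abstract

variable {F V : Type*} [Field F] [Fintype F] [AddCommGroup V] [Module F V]
variable {Q : QuadraticForm F V}

theorem two_gen_of_two (hQ : Nondeg Q) (hodd : Odd (Fintype.card F)) (h2 : (2 : F) ≠ 0) {e f : ℕ → V}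
    (h : NFrame Q 2 e f) {z : V} (hz : InKer Q 2 e f z) (hQz : Q z ≠ 0)
    (hdec : ∀ x, ∃ a b c d r : F, x = a • e 0 + b • f 0 + c • e 1 + d • f 1 + r • z) :
    ∃ a ∈ sieGroup Q, ∃ b ∈ sieGroup Q, Subgroup.closure {a, b} = sieGroup Q := by
  obtain ⟨t, ht4, ht⟩ := exists_param F
  have h0 : (0 : ℕ) < 2 := by decide
  have h1 : (1 : ℕ) < 2 := by decide
  have hq := h.quad h0 h1 (by decide)
  have hee : polar Q (e 0) (e 1) = 0 := h.ee 0 h0 1 h1
  set C := cEl hq t with hC
  set L := sie (e 0) (e 1) (h.qe 0 h0) hee with hL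
  set ρ := sie (e 0) z (h.qe 0 h0) (hz 0 h0).1 with hρ
  set S := sEl (h.qe 1 h1) (h.qf 1 h1) (hz 1 h1).1 (hz 1 h1).2 with hS
  set N := nEl hq with hN
  set J := N * N * S with hJ
  have hef1 : polar Q (e 1) (f 1) = 1 := hq.ef'
  -- the involution
  have hNz : (N : V ≃ₗ[F] V) z = z := nEl_fix hq (hz 0 h0).1 (hz 0 h0).2 (hz 1 h1).1 (hz 1 h1).2
  have hSe0 : (S : V ≃ₗ[F] V) (e 0) = e 0 := by
    rw [hS, sEl_perp _ _ hef1 _ _ hQz hq.symm.ee hq.symm.fE, polar_comm (⇑Q) z, (hz 0 h0).1]; simp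
  have hSf0 : (S : V ≃ₗ[F] V) (f 0) = f 0 := by
    rw [hS, sEl_perp _ _ hef1 _ _ hQz hq.symm.eF hq.symm.ff, polar_comm (⇑Q) z, (hz 0 h0).2]; simp
  have hJe0 : (J : V ≃ₗ[F] V) (e 0) = -e 0 := by
    simp only [hJ, Subgroup.coe_mul, mul_app, hSe0, hN, nEl_e, nEl_e']
  have hJf0 : (J : V ≃ₗ[F] V) (f 0) = -f 0 := by
    simp only [hJ, Subgroup.coe_mul, mul_app, hSf0, hN, nEl_f, nEl_f']
  have hJe1 : (J : V ≃ₗ[F] V) (e 1) = (Q z)⁻¹ • f 1 := by
    simp only [hJ, Subgroup.coe_mul, mul_app, hS, sEl_e _ _ hef1 _ _ hQz, map_smul, hN, nEl_f', map_neg,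
      nEl_f, smul_neg, neg_smul, neg_neg]
  have hJf1 : (J : V ≃ₗ[F] V) (f 1) = Q z • e 1 := by
    simp only [hJ, Subgroup.coe_mul, mul_app, hS, sEl_f _ _ hef1 _ _ hQz, map_smul, hN, nEl_e', map_neg,
      nEl_e, smul_neg, neg_smul, neg_neg]
  have hJz : (J : V ≃ₗ[F] V) z = -z := by
    have e1 : (S : V ≃ₗ[F] V) z = -z := by
      rw [hS, sEl_perp _ _ hef1 _ _ hQz (hz 1 h1).1 (hz 1 h1).2, polar_self']
      rw [show (Q z)⁻¹ * (2 * Q z) = 2 by field_simp]
      module
    simp only [hJ, Subgroup.coe_mul, mul_app, e1, map_neg, hNz]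
  have hJ2 : J * J = 1 := by
    refine O.ext_app fun x => ?_
    obtain ⟨a, b, c, d, r, rfl⟩ := hdec x
    simp only [Subgroup.coe_mul, mul_app, map_add, map_smul, hJe0, hJf0, hJe1, hJf1, hJz, map_neg,
      smul_smul, neg_neg, inv_mul_cancel₀ hQz, mul_inv_cancel₀ hQz, mul_one, one_smul]
    rfl
  have hJm : J ∈ sieGroup Q := mul_mem (mul_mem (nEl_mem _) (nEl_mem _)) (sEl_mem _ _ _ _)
  -- commutation
  have hCL : Commute C L := by
    have : C * L * C⁻¹ = L := by
      rw [hL, sie_conj]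
      have h10 : polar Q (e 1) (-e 0) = 0 := by rw [polar_neg_right, hq.symm.ee, neg_zero]
      rw [sie_congr _ _ (h.qe 1 h1) (by rw [polar_add_right, h10, polar_smul_right', polar_self', h.qe 1 h1]; ring)
        (cEl_e hq t) (cEl_e' hq t), sie_add_smul _ h10 t, sie_swap _ h10 (by rw [QuadraticMap.map_neg, h.qe 0 h0])]
      refine O.ext_app fun x => ?_
      simp only [sie_app, QuadraticMap.map_neg, h.qe 1 h1, polar_neg_left, zero_mul, sub_zero]
      module
    exact mul_inv_eq_iff_eq_mul.1 this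
  have hρJ : Commute J ρ := by
    have : J * ρ * J⁻¹ = ρ := by
      rw [hρ, sie_conj]
      refine O.ext_app fun x => ?_
      simp only [sie_app, hJe0, hJz, QuadraticMap.map_neg, polar_neg_left]
      module
    exact mul_inv_eq_iff_eq_mul.1 this
  refine ⟨C * L, mul_mem (cEl_mem hq t) (sie_mem _ _), ρ * J, mul_mem (sie_mem _ _) hJm, le_antisymm ?_ ?_⟩
  · rw [Subgroup.closure_le]
    rintro x (rfl | rfl)
    · exact mul_mem (cEl_mem hq t) (sie_mem _ _)
    · exact mul_mem (sie_mem _ _) hJm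
  set G := Subgroup.closure {C * L, ρ * J}
  obtain ⟨hCG, hLG⟩ := mem_of_coprime_mul (G := G) hCL (q := Fintype.card F) Fintype.card_pos
    (cEl_pow_eq_one hq ht4 hq.split) (sie_pow_card _ _) (Subgroup.subset_closure (Set.mem_insert _ _))
  have hbG : ρ * J ∈ G := Subgroup.subset_closure (Set.mem_insert_of_mem _ rfl)
  have hJG : J ∈ G := by
    have := G.pow_mem hbG (Fintype.card F)
    obtain ⟨m, hm⟩ := hodd
    rwa [hρJ.symm.mul_pow, sie_pow_card, one_mul, hm, pow_succ, pow_mul, pow_two, hJ2, one_pow, one_mul] at this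
  have hρG : ρ ∈ G := by
    have := G.mul_mem hbG (G.inv_mem hJG)
    rwa [mul_inv_cancel_right] at this
  have hCall : ∀ i (hi : i + 1 < 2),
      cEl (h.quad (Nat.lt_of_succ_lt hi) hi (Nat.ne_of_lt (Nat.lt_succ_self i))) t ∈ G := by
    intro i hi
    obtain rfl : i = 0 := by omega
    exact hCG
  have hzz : polar Q z z ≠ 0 := by rw [polar_self']; exact mul_ne_zero h2 hQz
  -- the half spanned by `e`
  have good1 : ∀ u ∈ espan F 2 e, Good G 2 e u z :=
    spread h ht hCall (fun u => Good G 2 e u z) (fun u v _ hv g1 g2 => g1.add h hv hz g2)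
      (fun u hu g1 => g1.neg h hu hz) (fun g hg hgE hgz u _ g1 => by
        have := g1.conj hg hgE
        rwa [hgz z hz] at this) 0 (by omega) le_rfl
      ⟨ρ, hρG, fun x hx => by rw [hρ, sie_app, hx 0 h0]; simp⟩
  have long : ∀ u v (hu : u ∈ espan F 2 e) (hv : v ∈ espan F 2 e),
      sie u v (qmap_espan h hu) (polar_espan hu (espan_perp h hv)) ∈ G := by
    intro u v hu hv
    have := long_mem hQ h hu (Submodule.smul_mem _ ((-polar Q z z)⁻¹) hv) hz hz (good1 u hu)
      (good1 _ (Submodule.smul_mem _ _ hv))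
    rwa [sie_congr _ _ (qmap_espan h hu) (polar_espan hu (espan_perp h hv)) rfl
      (smul_inv_smul₀ (neg_ne_zero.2 hzz) v)] at this
  have short : ∀ u (hu : u ∈ espan F 2 e), sie u z (qmap_espan h hu) (espan_ker hu hz) ∈ G := by
    suffices ∀ u ∈ espan F 2 e, ∀ hu : u ∈ espan F 2 e, sie u z (qmap_espan h hu) (espan_ker hu hz) ∈ G from
      fun u hu => this u hu hu
    refine spread h ht hCall (fun u => ∀ hu : u ∈ espan F 2 e, sie u z (qmap_espan h hu) (espan_ker hu hz) ∈ G)
      (fun u v hu hv g1 g2 _ => ?_) (fun u hu g1 _ => ?_) (fun g hg hgE hgz u hu g1 _ => ?_) 0 (by omega) le_rfl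
      (fun _ => hρG)
    · rw [← short_mul (qmap_espan h hu) (qmap_espan h hv) (polar_espan hu (espan_perp h hv)) (espan_ker hu hz)
        (espan_ker hv hz)]
      exact G.mul_mem (G.mul_mem (g1 hu) (g2 hv)) (long u _ hu (Submodule.smul_mem _ _ hv))
    · have hm : -u ∈ espan F 2 e := Submodule.neg_mem _ hu
      have := short_mul (qmap_espan h hu) (qmap_espan h hm) (polar_espan hu (espan_perp h hm))
        (espan_ker hu hz) (espan_ker hm hz)
      rw [show sie (u + -u) z _ _ = 1 from O.ext_app fun x => by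
        rw [sie_app, add_neg_cancel, polar_zero_left]; simp] at this
      rw [mul_assoc] at this
      have h4 : sie (-u) z (qmap_espan h hm) (espan_ker hm hz) =
          (sie u z (qmap_espan h hu) (espan_ker hu hz))⁻¹ * (sie u (Q z • -u) (qmap_espan h hu)
            (polar_espan hu (espan_perp h (Submodule.smul_mem _ _ hm))))⁻¹ :=
        eq_mul_inv_of_mul_eq (inv_eq_of_mul_eq_one_right this).symm
      rw [h4]
      exact G.mul_mem (G.inv_mem (g1 hu)) (G.inv_mem (long u _ hu (Submodule.smul_mem _ _ hm)))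
    · have := G.mul_mem (G.mul_mem hg (g1 hu)) (G.inv_mem hg)
      rw [sie_conj] at this
      rwa [sie_congr _ _ _ _ rfl (hgz z hz)] at this
  have he0 : e 0 ∈ espan F 2 e := e_mem_espan h0
  have he1 : e 1 ∈ espan F 2 e := e_mem_espan h1
  have conjJ : ∀ x : O Q, x ∈ G → J * x * J⁻¹ ∈ G := fun x hx => G.mul_mem (G.mul_mem hJG hx) (G.inv_mem hJG)
  -- the root group of `e 0`
  have hR0 : ∀ v (hv : polar Q (e 0) v = 0), sie (e 0) v (h.qe 0 h0) hv ∈ G := by
    have r1 : e 1 ∈ rootSub G (e 0) (h.qe 0 h0) :=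
      ⟨hee, fun a => long (e 0) (a • e 1) he0 (Submodule.smul_mem _ _ he1)⟩
    have r2 : z ∈ rootSub G (e 0) (h.qe 0 h0) := by
      refine ⟨(hz 0 h0).1, fun a => ?_⟩
      have := short (a • e 0) (Submodule.smul_mem _ a he0)
      rwa [sie_smul (h.qe 0 h0) (hz 0 h0).1] at this
    have r3 : f 1 ∈ rootSub G (e 0) (h.qe 0 h0) := by
      refine ⟨hq.eF, fun a => ?_⟩
      have := conjJ _ (long (e 0) ((-(a * Q z)) • e 1) he0 (Submodule.smul_mem _ _ he1))
      rw [sie_conj] at this
      have hd : polar Q (e 0) ((-a) • f 1) = 0 := by rw [polar_smul_right', hq.eF, mul_zero]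
      rw [sie_congr _ _ (qsmul_zero (h.qe 0 h0) (-1))
        (by rw [polar_smul_left', hd, mul_zero]) (by rw [hJe0, neg_one_smul])
        (by rw [map_smul, hJe1, smul_smul, neg_mul, mul_assoc, mul_inv_cancel₀ hQz, mul_one]),
        sie_smul (h.qe 0 h0) hd] at this
      rwa [sie_congr _ _ _ _ rfl (by rw [smul_smul, neg_one_mul, neg_neg])] at this
    intro v hv
    refine sie_mem_of_rootSub ?_ hv
    obtain ⟨a, b, c, d, r, rfl⟩ := hdec v
    have hb : b = 0 := by
      simpa [polar_add_right, polar_smul_right', polar_self', h.qe 0 h0, hq.ef, hee, hq.eF, (hz 0 h0).1]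
        using hv
    subst hb
    rw [zero_smul, add_zero]
    exact Submodule.add_mem _ (Submodule.add_mem _ (Submodule.add_mem _ (Submodule.smul_mem _ a (rootSub_self G _))
      (Submodule.smul_mem _ c r1)) (Submodule.smul_mem _ d r3)) (Submodule.smul_mem _ r r2)
  -- short root elements of the half spanned by `f`
  have sf1 : ∀ a : F, sie (f 1) (a • z) (h.qf 1 h1) (by rw [polar_smul_right', (hz 1 h1).2, mul_zero]) ∈ G := by
    intro a
    have := conjJ _ (short ((-(a * Q z)) • e 1) (Submodule.smul_mem _ _ he1))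
    rw [sie_conj] at this
    have hd : polar Q (f 1) (-z) = 0 := by rw [polar_neg_right, (hz 1 h1).2, neg_zero]
    rw [sie_congr _ _ (qsmul_zero (h.qf 1 h1) (-a)) (by rw [polar_smul_left', hd, mul_zero])
      (by rw [map_smul, hJe1, smul_smul, neg_mul, mul_assoc, mul_inv_cancel₀ hQz, mul_one]) hJz,
      sie_smul (h.qf 1 h1) hd] at this
    rwa [sie_congr _ _ _ _ rfl (by rw [smul_neg, neg_smul, neg_neg])] at this
  have sf0 : ∀ a : F, sie (f 0) (a • z) (h.qf 0 h0) (by rw [polar_smul_right', (hz 0 h0).2, mul_zero]) ∈ G := by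
    intro a
    have := G.mul_mem (G.mul_mem hCG (sf1 (-a))) (G.inv_mem hCG)
    rw [sie_conj] at this
    have hd : polar Q (f 0) ((-a) • z) = 0 := by rw [polar_smul_right', (hz 0 h0).2, mul_zero]
    rw [sie_congr _ _ (qsmul_zero (h.qf 0 h0) (-1)) (by rw [polar_smul_left', hd, mul_zero])
      (by rw [cEl_f' hq, neg_one_smul]) (by
        rw [map_smul, cEl_fix hq t (hz 0 h0).1 (hz 0 h0).2 (hz 1 h1).1 (hz 1 h1).2]),
      sie_smul (h.qf 0 h0) hd] at this
    rwa [sie_congr _ _ _ _ rfl (by rw [smul_smul, neg_one_mul, neg_neg])] at this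
  have hR1 : ∀ v (hv : polar Q (f 0) v = 0), sie (f 0) v (h.qf 0 h0) hv ∈ G := by
    have hs := h.swap
    have hf0 : f 0 ∈ espan F 2 f := e_mem_espan h0
    have hf1 : f 1 ∈ espan F 2 f := e_mem_espan h1
    have goodf : ∀ a : F, Good G 2 f (f 0) (a • z) ∧ Good G 2 f (f 1) (a • z) := fun a =>
      ⟨⟨_, sf0 a, fun x hx => by rw [sie_app, hx 0 h0]; simp⟩,
        ⟨_, sf1 a, fun x hx => by rw [sie_app, hx 1 h1]; simp⟩⟩
    have hker : ∀ a : F, InKer Q 2 f e (a • z) := fun a i hi => by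
      rw [polar_smul_right', polar_smul_right', (hz.swap i hi).1, (hz.swap i hi).2]; simp
    have r1 : f 1 ∈ rootSub G (f 0) (h.qf 0 h0) := by
      refine ⟨hq.ff, fun a => ?_⟩
      have := long_mem hQ hs hf0 hf1 (hker (-a / polar Q z z)) (hker 1) (goodf _).1 (goodf _).2
      have hd : polar Q (f 0) (a • f 1) = 0 := by rw [polar_smul_right', hq.ff, mul_zero]
      have e1 : (-polar Q ((-a / polar Q z z) • z) ((1 : F) • z)) • f 1 = a • f 1 := by
        rw [polar_smul_left', one_smul, div_mul_cancel₀ _ hzz, neg_neg]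
      rwa [sie_congr _ _ (h.qf 0 h0) hd rfl e1] at this
    have r2 : z ∈ rootSub G (f 0) (h.qf 0 h0) := ⟨(hz 0 h0).2, sf0⟩
    have r3 : e 1 ∈ rootSub G (f 0) (h.qf 0 h0) := by
      refine ⟨hq.fE, fun a => ?_⟩
      obtain ⟨hd0, hm⟩ := r1
      have := conjJ _ (hm (-(a / Q z)))
      rw [sie_conj] at this
      have hd : polar Q (f 0) ((-a) • e 1) = 0 := by rw [polar_smul_right', hq.fE, mul_zero]
      rw [sie_congr _ _ (qsmul_zero (h.qf 0 h0) (-1)) (by rw [polar_smul_left', hd, mul_zero])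
        (by rw [hJf0, neg_one_smul]) (by rw [map_smul, hJf1, smul_smul, neg_mul, div_mul_cancel₀ _ hQz]),
        sie_smul (h.qf 0 h0) hd] at this
      rwa [sie_congr _ _ _ _ rfl (by rw [smul_smul, neg_one_mul, neg_neg])] at this
    intro v hv
    refine sie_mem_of_rootSub ?_ hv
    obtain ⟨a, b, c, d, r, rfl⟩ := hdec v
    have ha : a = 0 := by
      simpa [polar_add_right, polar_smul_right', polar_self', h.qf 0 h0, polar_comm (⇑Q) (f 0) (e 0), hq.ef,
        hq.fE, hq.ff, (hz 0 h0).2] using hv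
    subst ha
    rw [zero_smul, zero_add]
    exact Submodule.add_mem _ (Submodule.add_mem _ (Submodule.add_mem _ (Submodule.smul_mem _ b (rootSub_self G _))
      (Submodule.smul_mem _ c r3)) (Submodule.smul_mem _ d r1)) (Submodule.smul_mem _ r r2)
  exact sieGroup_le_of_opposite hQ (h.qe 0 h0) (h.qf 0 h0) hq.ef hR0 hR1

theorem two_gen_odd {F : Type*} [Field F] [Fintype F] (hodd : Odd (Fintype.card F)) (m : ℕ) (hm : 2 ≤ m) :
    ∃ a b : Cfsg.POmega F (Cfsg.quadFormOdd m F),
      Subgroup.closure ({a, b} : Set (Cfsg.POmega F (Cfsg.quadFormOdd m F))) = ⊤ := by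
  have h2 : (2 : F) ≠ 0 := Ring.two_ne_zero fun h => by
    rw [FiniteField.even_card_of_char_two h |> Nat.even_iff.2 |> Nat.not_odd_iff_even.2 |> iff_false_intro] at hodd
    exact hodd
  have hQ := formOdd_nondeg F m h2
  refine exists_two_gen_POmega (Q := formOdd F m) hQ (by rw [finrank_formOdd]; omega) ?_
  have h := NFrame.of_isFrame (formOdd_frame F m)
  set e : ℕ → Unit ⊕ (Fin m ⊕ Fin m) → F := fun i => if hi : i < m then stdOddE F m ⟨i, hi⟩ else 0
  set f : ℕ → Unit ⊕ (Fin m ⊕ Fin m) → F := fun i => if hi : i < m then stdOddF F m ⟨i, hi⟩ else 0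
  set z : Unit ⊕ (Fin m ⊕ Fin m) → F := Pi.single (.inl ()) 1 with hz
  have hQz : formOdd F m z ≠ 0 := by simp [hz, formOdd_coe, Cfsg.quadFormOdd]
  have hzk : InKer (formOdd F m) m e f z := fun i hi => by
    simp [hz, e, f, hi, polar_formOdd, stdOddE, stdOddF, Pi.single_apply]
  rcases hm.eq_or_lt with rfl | hm3
  · refine two_gen_of_two hQ hodd h2 h hzk hQz fun x =>
      ⟨x (.inr (.inl 0)), x (.inr (.inr 0)), x (.inr (.inl 1)), x (.inr (.inr 1)), x (.inl ()), ?_⟩
    funext s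
    rcases s with _ | i | i
    · simp [e, f, hz, stdOddE, stdOddF]
    · fin_cases i <;> simp [e, f, hz, stdOddE, stdOddF]
    · fin_cases i <;> simp [e, f, hz, stdOddE, stdOddF]
  · refine two_gen_of_three hQ h hm3 hzk hzk hQz (by rw [polar_self']; exact mul_ne_zero h2 hQz) fun x hx => ?_
    refine ⟨x (.inl ()), 0, ?_⟩
    have hr : ∀ i : Fin m, x (.inr (.inl i)) = 0 ∧ x (.inr (.inr i)) = 0 := fun i => by
      have h1 := hx i i.2
      simp only [e, f, i.2, dite_true] at h1
      exact ⟨by simpa [polar_formOdd, stdOddF, Pi.single_apply, Finset.sum_add_distrib] using h1.2,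
        by simpa [polar_formOdd, stdOddE, Pi.single_apply, Finset.sum_add_distrib] using h1.1⟩
    funext s
    rcases s with _ | i | i
    · simp [hz]
    · simp [hz, (hr i).1]
    · simp [hz, (hr i).2]

end Cfsg.Agent.H30.OrthTwoGen
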